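import Groth.Prelude.Def_LambdaRing
import Groth.Agent.L22.Lambda
import Mathlib.RingTheory.PowerSeries.Substitution
import Mathlib.RingTheory.PowerSeries.WellKnown

/-!
The γ-series as a substitution in the λ-series.
-/

universe u

namespace Groth.L08.Lambda

open LambdaRing Finset Groth.L22.Lambda
open PowerSeries (coeff constantCoeff C X subst HasSubst mk)

variable {K : Type u} [CommRing K]

/-- The series X/(1-X). -/
noncomputable def gS (K : Type u) [CommRing K] : PowerSeries K := X * mk 1

theorem hasSubst_gS : HasSubst (gS K) := HasSubst.of_constantCoeff_zero' (by simp [gS])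

theorem coeff_gS_pow (d k : ℕ) : coeff k (gS K ^ d) =
    if d = 0 then (if k = 0 then 1 else 0) else (if d ≤ k then ((k - 1).choose (d - 1) : K) else 0) := by
  rcases d with - | d
  · simp [PowerSeries.coeff_one]
  · rw [gS, mul_pow, PowerSeries.coeff_X_pow_mul', PowerSeries.mk_one_pow_eq_mk_choose_add,
      if_neg (Nat.succ_ne_zero d)]
    split_ifs with h
    · rw [PowerSeries.coeff_mk]
      congr 2 <;> omega
    · rfl

theorem gS_mul_one_sub : gS K * (1 - X) = X := by
  rw [gS, mul_assoc, PowerSeries.mk_one_mul_one_sub_eq_one, mul_one]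

variable [LambdaOps K]

/-- The γ-series. -/
noncomputable def gammaSeries (x : K) : PowerSeries K := subst (gS K) (lamSeries x)

theorem coeff_gammaSeries (k : ℕ) (x : K) : coeff k (gammaSeries x) = gamma k x := by
  rw [gammaSeries, PowerSeries.coeff_subst' hasSubst_gS,
    finsum_eq_sum_of_support_subset (s := range (k + 1))]
  swap
  · intro d hd
    simp only [Function.mem_support] at hd
    by_contra hc
    simp only [coe_range, Set.mem_Iio, not_lt] at hc
    apply hd
    rw [coeff_gS_pow, if_neg (by omega), if_neg (by omega), smul_zero]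
  unfold gamma
  split_ifs with h
  · subst h
    simp [coeff_lamSeries, LambdaOps.lam_zero]
  · refine sum_congr rfl fun j hj => ?_
    simp only [mem_range] at hj
    rw [coeff_gS_pow, coeff_lamSeries, smul_eq_mul]
    rcases j with - | j
    · simp [h]
    · rw [if_neg (Nat.succ_ne_zero j), if_pos (by omega), if_neg (Nat.succ_ne_zero j), mul_comm]

theorem gammaSeries_add (x y : K) : gammaSeries (x + y) = gammaSeries x * gammaSeries y := by
  rw [gammaSeries, lamSeries_add, PowerSeries.subst_mul hasSubst_gS]; rfl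

theorem gamma_add (k : ℕ) (x y : K) :
    gamma k (x + y) = ∑ i ∈ range (k + 1), gamma i x * gamma (k - i) y := by
  rw [← coeff_gammaSeries, gammaSeries_add, PowerSeries.coeff_mul,
    Finset.Nat.sum_antidiagonal_eq_sum_range_succ_mk]
  simp [coeff_gammaSeries]

theorem gammaSeries_zero : gammaSeries (0 : K) = 1 := by
  rw [gammaSeries, lamSeries_zero, ← PowerSeries.coe_substAlgHom hasSubst_gS, map_one]

theorem gamma_one (x : K) : gamma 1 x = x := by
  simp [gamma, sum_range_succ, LambdaOps.lam_one]

theorem gamma_zero (x : K) : gamma 0 x = 1 := by simp [gamma]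

/-- λ_t(1) = 1 + t, in series form. -/
theorem lamSeries_one (h1 : ∀ k : ℕ, 2 ≤ k → LambdaOps.lam k (1 : K) = 0) :
    lamSeries (1 : K) = 1 + X := by
  ext k
  rw [coeff_lamSeries, map_add, PowerSeries.coeff_one, PowerSeries.coeff_X]
  rcases k with - | - | k
  · simp [LambdaOps.lam_zero]
  · simp [LambdaOps.lam_one]
  · rw [h1 (k + 2) (by omega), if_neg (by omega), if_neg (by omega), add_zero]

theorem lamSeries_natCast' (h1 : ∀ k : ℕ, 2 ≤ k → LambdaOps.lam k (1 : K) = 0) (n : ℕ) :
    lamSeries (n : K) = (1 + X) ^ n := by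
  induction n with
  | zero => simp [lamSeries_zero]
  | succ n ih => rw [Nat.cast_succ, lamSeries_add, ih, lamSeries_one h1, pow_succ]

theorem gammaSeries_one (h1 : ∀ k : ℕ, 2 ≤ k → LambdaOps.lam k (1 : K) = 0) :
    gammaSeries (1 : K) * (1 - X) = 1 := by
  rw [gammaSeries, lamSeries_one h1, ← PowerSeries.coe_substAlgHom hasSubst_gS, map_add, map_one,
    PowerSeries.coe_substAlgHom, PowerSeries.subst_X hasSubst_gS, add_mul, gS_mul_one_sub, one_mul]
  ring

theorem gammaSeries_neg_natCast (h1 : ∀ k : ℕ, 2 ≤ k → LambdaOps.lam k (1 : K) = 0) (n : ℕ) :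
    gammaSeries (-(n : K)) = (1 - X) ^ n := by
  induction n with
  | zero => simp [gammaSeries_zero]
  | succ n ih =>
    have h := gammaSeries_add (-((n + 1 : ℕ) : K)) 1
    rw [show -((n + 1 : ℕ) : K) + 1 = -(n : K) by push_cast; ring, ih] at h
    rw [pow_succ, h, mul_assoc, gammaSeries_one h1, mul_one]

theorem gammaSeries_multiset_sum (s : Multiset K) :
    gammaSeries s.sum = (s.map gammaSeries).prod := by
  induction s using Multiset.induction with
  | empty => simp [gammaSeries_zero]
  | cons a s ih => simp [gammaSeries_add, ih]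

theorem lamSeries_of_lam_eq_zero {y : K} (hy : ∀ j, 2 ≤ j → LambdaOps.lam j y = 0) :
    lamSeries y = 1 + C y * X := by
  ext k
  rw [coeff_lamSeries, coeff_one_add_C_mul_X]
  rcases k with - | - | k
  · simp [LambdaOps.lam_zero]
  · simp [LambdaOps.lam_one]
  · simp [hy (k + 2) (by omega)]

theorem gammaSeries_sub_one (h1 : ∀ k : ℕ, 2 ≤ k → LambdaOps.lam k (1 : K) = 0) {y : K}
    (hy : ∀ j, 2 ≤ j → LambdaOps.lam j y = 0) :
    gammaSeries (y - 1) = 1 + C (y - 1) * X := by
  have h := gammaSeries_add y (-((1 : ℕ) : K))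
  rw [Nat.cast_one, ← sub_eq_add_neg] at h
  have hn := gammaSeries_neg_natCast h1 1
  rw [Nat.cast_one, pow_one] at hn
  rw [h, hn, gammaSeries, lamSeries_of_lam_eq_zero hy, ← PowerSeries.coe_substAlgHom hasSubst_gS,
    map_add, map_one, map_mul, PowerSeries.coe_substAlgHom, PowerSeries.subst_X hasSubst_gS]
  have hc : subst (gS K) (C y : PowerSeries K) = C y := by
    rw [PowerSeries.subst_C]; rfl
  rw [hc, add_mul, mul_assoc, gS_mul_one_sub, map_sub, map_one]
  ring

theorem coeff_one_sub_X_pow (m k : ℕ) :
    coeff k ((1 - X) ^ m : PowerSeries K) = (-1) ^ k * (m.choose k : K) := by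
  induction m generalizing k with
  | zero =>
    rcases k with - | k <;> simp [PowerSeries.coeff_one]
  | succ m ih =>
    rw [pow_succ, mul_sub, mul_one, map_sub, ih]
    rcases k with - | k
    · simp
    · rw [PowerSeries.coeff_succ_mul_X, ih, Nat.choose_succ_succ', Nat.cast_add]
      ring

end Groth.L08.Lambda
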