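import Groth.Agent.L08.Lambda.Special

/-!
Operations on polynomials in the γ-operations of finitely many generators are given by universal
integral polynomials.
-/

universe u v

namespace Groth.L08.Lambda

open Finset LambdaRing

variable {A : Type u} [CommRing A] [LambdaOps A]

theorem lam_neg_succ (n : ℕ) (x : A) :
    LambdaOps.lam (n + 1) (-x) =
      -∑ i ∈ range (n + 1), LambdaOps.lam (i + 1) x * LambdaOps.lam (n - i) (-x) := by
  have h := LambdaOps.lam_add (n + 1) x (-x)
  rw [add_neg_cancel, L22.Lambda.lam_succ_zero, sum_range_succ', LambdaOps.lam_zero, one_mul,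
    Nat.sub_zero] at h
  simp only [Nat.add_sub_add_right] at h
  linear_combination -h

theorem gamma_succ_eq (j : ℕ) (x : A) : gamma (j + 1) x =
    (∑ i ∈ range j, (j.choose i : A) * LambdaOps.lam (i + 1) x) + LambdaOps.lam (j + 1) x := by
  rw [gamma, if_neg (Nat.succ_ne_zero j), sum_range_succ', sum_range_succ]
  simp

/-- Generators: a family and one element with vanishing γ-operations above `d`. -/
structure Gens (ι : Type) (d : ℕ) (A : Type u) [CommRing A] [LambdaOps A] where
  /-- the free generators -/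
  x : ι → A
  /-- the element of bounded rank -/
  N : A
  gamma_N : ∀ j, d < j → gamma j N = 0

variable {ι : Type} {d : ℕ}

/-- The variables. -/
abbrev GVar (ι : Type) (d : ℕ) : Type := (ι × ℕ) ⊕ Fin d

/-- Their weights. -/
def gwt {ι : Type} {d : ℕ} : GVar ι d → ℕ := Sum.elim (fun p => p.2 + 1) (fun j => (j : ℕ) + 1)

/-- Evaluation at the γ-operations of the generators. -/
noncomputable def Gens.ev (G : Gens ι d A) : MvPolynomial (GVar ι d) ℤ →+* A :=
  (MvPolynomial.aeval (Sum.elim (fun p => gamma (p.2 + 1) (G.x p.1))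
    (fun j : Fin d => gamma ((j : ℕ) + 1) G.N))).toRingHom

theorem Gens.ev_inl (G : Gens ι d A) (l : ι) (m : ℕ) :
    G.ev (MvPolynomial.X (Sum.inl (l, m))) = gamma (m + 1) (G.x l) := by simp [Gens.ev]

theorem Gens.ev_inr (G : Gens ι d A) (j : Fin d) :
    G.ev (MvPolynomial.X (Sum.inr j)) = gamma ((j : ℕ) + 1) G.N := by simp [Gens.ev]

variable {B : Type v} [CommRing B] [LambdaOps B] (hA : IsSpecial A) (hB : IsSpecial B)
  (GA : Gens ι d A) (GB : Gens ι d B)

/-- Pairs of elements given by one polynomial. -/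
def Rel (a : A) (b : B) : Prop := ∃ q, GA.ev q = a ∧ GB.ev q = b

/-- Pairs of elements all of whose λ-operations are given by polynomials. -/
def RelLam (a : A) (b : B) : Prop := ∀ n, Rel GA GB (LambdaOps.lam n a) (LambdaOps.lam n b)

variable {GA GB}

theorem Rel.one : Rel GA GB 1 1 := ⟨1, map_one _, map_one _⟩

theorem Rel.zero : Rel GA GB 0 0 := ⟨0, map_zero _, map_zero _⟩

theorem Rel.intCast (z : ℤ) : Rel GA GB z z := ⟨z, map_intCast _ z, map_intCast _ z⟩

theorem Rel.natCast (z : ℕ) : Rel GA GB z z := ⟨z, map_natCast _ z, map_natCast _ z⟩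

theorem Rel.add {a a' : A} {b b' : B} (h : Rel GA GB a b) (h' : Rel GA GB a' b') :
    Rel GA GB (a + a') (b + b') := by
  obtain ⟨q, rfl, rfl⟩ := h
  obtain ⟨q', rfl, rfl⟩ := h'
  exact ⟨q + q', map_add _ _ _, map_add _ _ _⟩

theorem Rel.neg {a : A} {b : B} (h : Rel GA GB a b) : Rel GA GB (-a) (-b) := by
  obtain ⟨q, rfl, rfl⟩ := h
  exact ⟨-q, map_neg _ _, map_neg _ _⟩

theorem Rel.sub {a a' : A} {b b' : B} (h : Rel GA GB a b) (h' : Rel GA GB a' b') :
    Rel GA GB (a - a') (b - b') := by
  simpa [sub_eq_add_neg] using h.add h'.neg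

theorem Rel.mul {a a' : A} {b b' : B} (h : Rel GA GB a b) (h' : Rel GA GB a' b') :
    Rel GA GB (a * a') (b * b') := by
  obtain ⟨q, rfl, rfl⟩ := h
  obtain ⟨q', rfl, rfl⟩ := h'
  exact ⟨q * q', map_mul _ _ _, map_mul _ _ _⟩

theorem Rel.sum {κ : Type*} {s : Finset κ} {f : κ → A} {g : κ → B}
    (h : ∀ i ∈ s, Rel GA GB (f i) (g i)) : Rel GA GB (∑ i ∈ s, f i) (∑ i ∈ s, g i) := by
  classical
  induction s using Finset.induction with
  | empty => simpa using Rel.zero
  | insert a s ha ih =>
    rw [sum_insert ha, sum_insert ha]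
    exact (h a (mem_insert_self a s)).add (ih fun i hi => h i (mem_insert_of_mem hi))

theorem Rel.pow {a : A} {b : B} (h : Rel GA GB a b) : ∀ n : ℕ, Rel GA GB (a ^ n) (b ^ n)
  | 0 => by simpa using Rel.one
  | n + 1 => by rw [pow_succ, pow_succ]; exact (h.pow n).mul h

theorem Rel.aeval {σ : Type*} {f : σ → A} {g : σ → B} (h : ∀ i, Rel GA GB (f i) (g i))
    (P : MvPolynomial σ ℤ) : Rel GA GB (MvPolynomial.aeval f P) (MvPolynomial.aeval g P) := by
  induction P using MvPolynomial.induction_on with
  | C z => simpa using Rel.intCast z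
  | add p q hp hq => rw [map_add, map_add]; exact hp.add hq
  | mul_X p i hp => simpa using hp.mul (h i)

theorem RelLam.rel {a : A} {b : B} (h : RelLam GA GB a b) : Rel GA GB a b := by
  simpa [LambdaOps.lam_one] using h 1

theorem RelLam.add {a a' : A} {b b' : B} (h : RelLam GA GB a b) (h' : RelLam GA GB a' b') :
    RelLam GA GB (a + a') (b + b') := fun n => by
  rw [LambdaOps.lam_add, LambdaOps.lam_add]
  exact Rel.sum fun i _ => (h i).mul (h' (n - i))

theorem RelLam.neg {a : A} {b : B} (h : RelLam GA GB a b) : RelLam GA GB (-a) (-b) := by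
  intro n
  induction n using Nat.strong_induction_on with
  | _ n ih =>
    rcases n with - | n
    · simpa [LambdaOps.lam_zero] using Rel.one
    rw [lam_neg_succ, lam_neg_succ]
    exact (Rel.sum fun i hi => (h (i + 1)).mul (ih (n - i) (by omega))).neg

theorem RelLam.zero : RelLam GA GB 0 0 := fun n => by
  rcases n with - | n
  · simpa [LambdaOps.lam_zero] using Rel.one
  · simpa [L22.Lambda.lam_succ_zero] using Rel.zero

theorem RelLam.sum {κ : Type*} {s : Finset κ} {f : κ → A} {g : κ → B}
    (h : ∀ i ∈ s, RelLam GA GB (f i) (g i)) : RelLam GA GB (∑ i ∈ s, f i) (∑ i ∈ s, g i) := by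
  classical
  induction s using Finset.induction with
  | empty => simpa using RelLam.zero
  | insert a s ha ih =>
    rw [sum_insert ha, sum_insert ha]
    exact (h a (mem_insert_self a s)).add (ih fun i hi => h i (mem_insert_of_mem hi))

include hA hB

theorem RelLam.one : RelLam GA GB 1 1 := fun n => by
  rcases n with - | - | n
  · simpa [LambdaOps.lam_zero] using Rel.one
  · simpa [LambdaOps.lam_one] using Rel.one
  · simpa [hA.lam_one_eq_zero _ (show 2 ≤ n + 1 + 1 by omega),
      hB.lam_one_eq_zero _ (show 2 ≤ n + 1 + 1 by omega)] using Rel.zero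

theorem RelLam.mul {a a' : A} {b b' : B} (h : RelLam GA GB a b) (h' : RelLam GA GB a' b') :
    RelLam GA GB (a * a') (b * b') := fun n => by
  rw [hA.lam_mul n _ (isMulPoly_mulPoly n) a a', hB.lam_mul n _ (isMulPoly_mulPoly n) b b']
  refine Rel.aeval (fun k => ?_) _
  rcases k with k | k
  · exact h _
  · exact h' _

theorem RelLam.lam {a : A} {b : B} (h : RelLam GA GB a b) (i : ℕ) :
    RelLam GA GB (LambdaOps.lam i a) (LambdaOps.lam i b) := fun j => by
  rw [hA.lam_lam i j _ (isCompPoly_compPoly i j) a, hB.lam_lam i j _ (isCompPoly_compPoly i j) b]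
  exact Rel.aeval (fun k => h _) _

theorem RelLam.natCast : ∀ n : ℕ, RelLam GA GB (n : A) (n : B)
  | 0 => by simpa using RelLam.zero
  | n + 1 => by simpa using (RelLam.natCast n).add (RelLam.one hA hB)

theorem RelLam.intCast (z : ℤ) : RelLam GA GB (z : A) (z : B) := by
  obtain ⟨n, rfl | rfl⟩ := Int.eq_nat_or_neg z
  · simpa using RelLam.natCast hA hB n
  · simpa using (RelLam.natCast hA hB n).neg

omit hA hB in
theorem relLam_of_gamma {a : A} {b : B} (h : ∀ j, Rel GA GB (gamma (j + 1) a) (gamma (j + 1) b)) :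
    RelLam GA GB a b := by
  intro n
  induction n using Nat.strong_induction_on with
  | _ n ih =>
    rcases n with - | n
    · simpa [LambdaOps.lam_zero] using Rel.one
    have hs : Rel GA GB (∑ i ∈ range n, (n.choose i : A) * LambdaOps.lam (i + 1) a)
        (∑ i ∈ range n, (n.choose i : B) * LambdaOps.lam (i + 1) b) :=
      Rel.sum fun i hi => (Rel.natCast _).mul (ih (i + 1) (by simp at hi; omega))
    have := (h n).sub hs
    rwa [gamma_succ_eq, gamma_succ_eq, add_sub_cancel_left, add_sub_cancel_left] at this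

omit hA hB in
theorem relLam_x (l : ι) : RelLam GA GB (GA.x l) (GB.x l) :=
  relLam_of_gamma fun j => ⟨_, GA.ev_inl l j, GB.ev_inl l j⟩

omit hA hB in
theorem relLam_N : RelLam GA GB GA.N GB.N := by
  refine relLam_of_gamma fun j => ?_
  by_cases hj : j < d
  · exact ⟨_, GA.ev_inr ⟨j, hj⟩, GB.ev_inr ⟨j, hj⟩⟩
  · rw [GA.gamma_N _ (by omega), GB.gamma_N _ (by omega)]; exact Rel.zero

theorem relLam_gamma {a : A} {b : B} (h : RelLam GA GB a b) (n : ℕ) :
    RelLam GA GB (gamma n a) (gamma n b) := by
  rcases n with - | n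
  · simpa [gamma] using RelLam.one hA hB
  rw [gamma_succ_eq, gamma_succ_eq]
  exact (RelLam.sum fun i _ => (RelLam.natCast hA hB _).mul hA hB (h.lam hA hB _)).add
    (h.lam hA hB _)

theorem relLam_ev (p : MvPolynomial (GVar ι d) ℤ) : RelLam GA GB (GA.ev p) (GB.ev p) := by
  induction p using MvPolynomial.induction_on with
  | C z => simpa [Gens.ev] using RelLam.intCast hA hB z
  | add p q hp hq => rw [map_add, map_add]; exact hp.add hq
  | mul_X p i hp =>
    rw [map_mul, map_mul]
    refine hp.mul hA hB ?_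
    rcases i with ⟨l, m⟩ | j
    · rw [Gens.ev_inl, Gens.ev_inl]; exact relLam_gamma hA hB (relLam_x l) _
    · rw [Gens.ev_inr, Gens.ev_inr]; exact relLam_gamma hA hB relLam_N _

/-- γ-operations of polynomials in the generators are given by polynomials. -/
theorem exists_gamma (p : MvPolynomial (GVar ι d) ℤ) (n : ℕ) :
    ∃ q, GA.ev q = gamma n (GA.ev p) ∧ GB.ev q = gamma n (GB.ev p) :=
  (relLam_gamma hA hB (relLam_ev hA hB p) n).rel

omit hA hB in
theorem rel_gh {a : A} {b : B} (h : RelLam GA GB a b) (k : ℕ) :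
    Rel GA GB (gh (fun i => LambdaOps.lam i a) k) (gh (fun i => LambdaOps.lam i b) k) := by
  induction k using Nat.strong_induction_on with
  | _ k ih =>
    rcases k with - | n
    · simpa [gh] using Rel.zero
    rw [gh.eq_2, gh.eq_2]
    refine ((Rel.one.neg).pow n).mul ((((Rel.natCast n).add Rel.one).mul (h (n + 1))).sub
      (Rel.sum fun i _ => ?_))
    exact (((Rel.one.neg).pow _).mul (ih _ (by omega))).mul (h _)

/-- Adams operations of polynomials in the generators are given by polynomials. -/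
theorem exists_adamsOp (p : MvPolynomial (GVar ι d) ℤ) {k : ℕ} (hk : 1 ≤ k) :
    ∃ q, GA.ev q = adamsOp k (GA.ev p) ∧ GB.ev q = adamsOp k (GB.ev p) := by
  rw [adamsOp_eq_gh hk, adamsOp_eq_gh hk]
  exact rel_gh (relLam_ev hA hB p) k

end Groth.L08.Lambda
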