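import Groth.Agent.L08.Lambda.ModelWt
import Groth.Agent.L08.Lambda.Transfer

/-!
The weight of γ-operations and Adams operations of monomials in γ-operations, in any special λ-ring.
-/

universe u v

namespace Groth.L08.Lambda

open Finset LambdaRing fwdDiff MvPolynomial

namespace Mdl

variable {ι : Type} {d : ℕ}

/-- The lines as a multiset. -/
noncomputable def lines (ι : Type) (d : ℕ) : Multiset (Mdl ι (Fin d)) :=
  univ.val.map fun a : Fin d => (X (Sum.inr a) : Mdl ι (Fin d))

/-- The generators of the model. -/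
noncomputable def gens (ι : Type) (d : ℕ) : Gens ι d (Mdl ι (Fin d)) where
  x l := pv l 1
  N := N0
  gamma_N j hj := by
    rw [gamma_N0, esymm_map_val, powersetCard_eq_empty.2 (by simpa using hj), sum_empty]

theorem θ_ofGh {κ : Type} {q : ℕ → Mdl ι κ}
    (hq : ∀ p, 1 ≤ p → θ wt (q p) = PowerSeries.C (q p) * PowerSeries.X ^ p) (i : ℕ) :
    θ wt (ofGh q i) = PowerSeries.C (ofGh q i) * PowerSeries.X ^ i := by
  induction i using Nat.strong_induction_on with
  | _ i ih =>
    rcases i with - | n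
    · rw [ofGh.eq_1, map_one, map_one, pow_zero, mul_one]
    rw [ofGh.eq_2, map_mul, map_sum, map_mul, map_sum, mul_assoc, sum_mul]
    congr 1
    · rw [show algebraMap ℚ (Mdl ι κ) = C from rfl, θ_C]
    · refine sum_congr rfl fun j _ => ?_
      rw [map_mul, map_mul, map_pow, map_neg, map_one, hq _ (by omega), ih (n - j) (by omega),
        map_mul PowerSeries.C, map_mul PowerSeries.C, map_pow, map_neg, map_one,
        show (PowerSeries.X : PowerSeries (Mdl ι κ)) ^ (n + 1) =
          PowerSeries.X ^ ((j : ℕ) + 1) * PowerSeries.X ^ (n - j) by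
            rw [← pow_add]; congr 1; omega]
      ring

theorem θ_pv {κ : Type} (l : ι) (p : ℕ) :
    θ wt (pv (κ := κ) l p) = PowerSeries.C (pv l p) * PowerSeries.X ^ p := by
  rcases p with - | p
  · simp [pv]
  · rw [pv, if_neg (Nat.succ_ne_zero p), θ_X]; rfl

theorem θ_gamma_pv (l : ι) (j : ℕ) :
    θ wt (gamma j (pv (κ := Fin d) l 1)) =
      PowerSeries.C (gamma j (pv l 1)) * PowerSeries.X ^ j := by
  rw [gamma_pv]; exact θ_ofGh (fun p _ => θ_pv l p) j

theorem θ_gamma_N0 (j : ℕ) :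
    θ wt (gamma j (N0 (ι := ι) (κ := Fin d))) =
      PowerSeries.C (gamma j N0) * PowerSeries.X ^ j := by
  rw [gamma_N0, esymm_map_val, map_sum, map_sum, sum_mul]
  refine sum_congr rfl fun t ht => ?_
  rw [map_prod, map_prod, prod_congr rfl fun a _ => θ_X (A := ℚ) wt _, prod_mul_distrib]
  simp [wt, (mem_powersetCard.1 ht).2]

theorem comp_ev (D : ℕ) (p : MvPolynomial (GVar ι d) ℤ) :
    comp wt D ((gens ι d).ev p) = (gens ι d).ev (comp gwt D p) := by
  refine map_comp gwt wt _ (fun z => ?_) (fun i => ?_) D p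
  · rw [eq_intCast C z, map_intCast (gens ι d).ev z, map_intCast, map_intCast]
  · rcases i with ⟨l, m⟩ | j
    · rw [Gens.ev_inl]; exact θ_gamma_pv l (m + 1)
    · rw [Gens.ev_inr]; exact θ_gamma_N0 ((j : ℕ) + 1)

section Injective

variable (ι d)

/-- The substitution of elementary symmetric functions for the lines. -/
noncomputable def P1 : Mdl ι (Fin d) →ₐ[ℚ] Mdl ι (Fin d) :=
  aeval (Sum.elim (fun p => X (Sum.inl p)) (fun j : Fin d => (lines ι d).esymm ((j : ℕ) + 1)))

/-- The substitution of ghost variables. -/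
noncomputable def P2 : Mdl ι (Fin d) →ₐ[ℚ] Mdl ι (Fin d) :=
  aeval (Sum.elim (fun p => ofGh (pv p.1) (p.2 + 1)) (fun j : Fin d => X (Sum.inr j)))

theorem P2_injective : Function.Injective (P2 ι d) := by
  let c : ι → ℕ → Mdl ι (Fin d) := fun l i => if i = 0 then 1 else X (Sum.inl (l, i - 1))
  let β : Mdl ι (Fin d) →ₐ[ℚ] Mdl ι (Fin d) :=
    aeval (Sum.elim (fun p => gh (c p.1) (p.2 + 1)) (fun j : Fin d => X (Sum.inr j)))
  have h : β.comp (P2 ι d) = AlgHom.id ℚ _ := by
    refine algHom_ext fun i => ?_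
    rcases i with ⟨l, m⟩ | j
    · simp only [AlgHom.comp_apply, P2, aeval_X, Sum.elim_inl, AlgHom.id_apply]
      change β.toRingHom _ = _
      rw [map_ofGh, ofGh_congr (m + 1) (q' := gh (c l)) (fun p hp _ => ?_) _ le_rfl,
        ← (newton_gh (c := c l) (if_pos rfl)).eq_ofGh]
      · simp [c]
      · simp [β, pv, show p ≠ 0 by omega, show p - 1 + 1 = p by omega]
    · simp [β, P2]
  exact Function.LeftInverse.injective (g := β) fun p => AlgHom.congr_fun h p

theorem P1_injective : Function.Injective (P1 ι d) := by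
  let e : Mdl ι (Fin d) ≃ₐ[ℚ] MvPolynomial (Fin d) (MvPolynomial (ι × ℕ) ℚ) :=
    (renameEquiv ℚ (Equiv.sumComm (ι × ℕ) (Fin d))).trans (sumAlgEquiv ℚ (Fin d) (ι × ℕ))
  have h : ∀ p, e (P1 ι d p) =
      aeval (fun k : Fin d => esymm (Fin d) (MvPolynomial (ι × ℕ) ℚ) ((k : ℕ) + 1)) (e p) := by
    intro p
    induction p using MvPolynomial.induction_on with
    | C r => simp [e, P1]
    | add p q hp hq => simp only [map_add, hp, hq]
    | mul_X p i hp =>
      simp only [map_mul, hp]
      congr 1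
      rcases i with i | i
      · simp [e, P1]
      · simp only [P1, aeval_X, Sum.elim_inr, lines, esymm_map_val, map_sum, map_prod]
        simp [e, esymm]
  intro p q hpq
  have := congrArg e hpq
  rw [h, h] at this
  exact e.injective (aeval_esymm_injective _ (Fin d) d (by simp) this)

theorem ev_injective : Function.Injective (gens ι d).ev := by
  have h : ∀ p, (gens ι d).ev p = P1 ι d (P2 ι d (MvPolynomial.map (Int.castRingHom ℚ) p)) := by
    intro p
    induction p using MvPolynomial.induction_on with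
    | C z =>
      rw [eq_intCast C z]
      simp
    | add p q hp hq => simp only [map_add, hp, hq]
    | mul_X p i hp =>
      rw [map_mul, map_mul, map_mul, map_mul, hp, MvPolynomial.map_X]
      refine congrArg (fun z : Mdl ι (Fin d) => (P1 ι d) ((P2 ι d) ((MvPolynomial.map (Int.castRingHom ℚ)) p)) * z) ?_
      rcases i with ⟨l, m⟩ | j
      · rw [Gens.ev_inl]
        simp only [P2, aeval_X, Sum.elim_inl]
        change gamma (m + 1) (pv l 1) = (P1 ι d).toRingHom _
        rw [gamma_pv, map_ofGh]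
        refine ofGh_congr (m + 1) (fun p hp _ => ?_) _ le_rfl
        simp [P1, pv, show p ≠ 0 by omega]
      · rw [Gens.ev_inr]
        simp only [P2, P1, aeval_X, Sum.elim_inr]
        exact gamma_N0 _
  intro p q hpq
  rw [h, h] at hpq
  exact castQ_injective _ (P2_injective ι d (P1_injective ι d hpq))

end Injective

theorem highWt_ev {M : ℕ} {p : MvPolynomial (GVar ι d) ℤ} :
    HighWt wt M ((gens ι d).ev p) ↔ HighWt gwt M p := by
  refine forall_congr' fun D => imp_congr_right fun _ => ?_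
  rw [comp_ev, ← map_eq_zero_iff _ (ev_injective ι d)]

end Mdl

variable {A : Type u} [CommRing A] [LambdaOps A] {ι : Type} {d : ℕ}

/-- The weight of `γ^n` of a polynomial in γ-operations. -/
theorem gamma_core (hA : IsSpecial A) (G : Gens ι d A) (p : MvPolynomial (GVar ι d) ℤ) {R : ℕ}
    (hR : 1 ≤ R) (hp : HighWt gwt R p) {n : ℕ} (hn : 1 ≤ n) :
    ∃ q, G.ev q = gamma n (G.ev p) ∧ (Mdl.gens ι d).ev q = gamma n ((Mdl.gens ι d).ev p) ∧
      HighWt gwt (max n R) q ∧
      (n = R → comp gwt R q = (-1) ^ (R - 1) * ((R - 1).factorial : MvPolynomial (GVar ι d) ℤ) *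
        comp gwt R p) := by
  obtain ⟨q, hq, hq'⟩ := exists_gamma hA Mdl.isSpecial (GA := G) (GB := Mdl.gens ι d) p n
  obtain ⟨h1, h2⟩ := Mdl.gamma_highWt hR (Mdl.highWt_ev.2 hp)
  refine ⟨q, hq, hq', Mdl.highWt_ev.1 (hq' ▸ h1 n hn), ?_⟩
  rintro rfl
  apply Mdl.ev_injective ι d
  rw [← Mdl.comp_ev, hq', h2, Mdl.comp_ev]
  simp

/-- The weight of an Adams operation of a polynomial in γ-operations. -/
theorem adams_core (hA : IsSpecial A) (G : Gens ι d A) (p : MvPolynomial (GVar ι d) ℤ) {R : ℕ}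
    (hp : HighWt gwt R p) {k : ℕ} (hk : 1 ≤ k) :
    ∃ q, G.ev q = adamsOp k (G.ev p) ∧ HighWt gwt R q ∧
      comp gwt R q = (k : MvPolynomial (GVar ι d) ℤ) ^ R * comp gwt R p := by
  obtain ⟨q, hq, hq'⟩ := exists_adamsOp hA Mdl.isSpecial (GA := G) (GB := Mdl.gens ι d) p hk
  obtain ⟨h1, h2⟩ := Mdl.lead k (Mdl.highWt_ev.2 hp)
  rw [← Mdl.adamsOp_eq hk, ← hq'] at h1 h2
  refine ⟨q, hq, Mdl.highWt_ev.1 h1, ?_⟩
  apply Mdl.ev_injective ι d
  rw [← Mdl.comp_ev, h2, Mdl.comp_ev]
  simp

end Groth.L08.Lambda
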