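import Groth.Agent.L08.Lambda.Special
import Mathlib.Algebra.Group.ForwardDiff

/-!
The power sums of the γ-series are the forward differences of the Adams operations.
-/

universe u

namespace Groth.L08.Lambda

open Finset LambdaRing fwdDiff

variable {R : Type u} [CommRing R]

theorem fwdDiff_eq_of_binomial_sum (f a : ℕ → R)
    (h : ∀ k, f k = ∑ p ∈ range (k + 1), (k.choose p : R) * a p) (p : ℕ) :
    Δ_[1]^[p] f 0 = a p := by
  induction p using Nat.strong_induction_on with
  | _ p ih =>
    have h1 := shift_eq_sum_fwdDiff_iter 1 f p 0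
    simp only [smul_eq_mul, mul_one, zero_add] at h1
    have h2 := h p
    rw [h1, sum_range_succ, sum_range_succ, Nat.choose_self, one_smul, Nat.cast_one, one_mul,
      sum_congr rfl fun q hq => by rw [ih q (mem_range.1 hq), nsmul_eq_mul]] at h2
    exact add_left_cancel h2

theorem binomial_sum_fwdDiff (f : ℕ → R) (k : ℕ) :
    f k = ∑ p ∈ range (k + 1), (k.choose p : R) * Δ_[1]^[p] f 0 := by
  have h1 := shift_eq_sum_fwdDiff_iter 1 f k 0
  simp only [smul_eq_mul, mul_one, zero_add] at h1
  rw [h1]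
  exact sum_congr rfl fun p _ => nsmul_eq_mul _ _

/-- Forward differences of a polynomial function on the naturals. -/
theorem fwdDiff_polynomial (P : Polynomial R) (f : ℕ → R) (h : ∀ k, f k = P.eval (k : R)) (n : ℕ) :
    Δ_[1]^[n] f 0 = Δ_[1]^[n] P.eval (0 : R) := by
  rw [fwdDiff_iter_eq_sum_shift, fwdDiff_iter_eq_sum_shift]
  simp [h]

variable [LambdaOps R]

theorem gh_gamma (x : R) {p : ℕ} (hp : 1 ≤ p) :
    gh (fun i => gamma i x) p = Δ_[1]^[p] (fun k => adamsOp k x) 0 := by
  suffices h : Newton (fun i => gamma i x) (fun p => Δ_[1]^[p] (fun k => adamsOp k x) 0) from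
    (h.eq_gh p hp).symm
  rw [newton_iff]
  refine ⟨gamma_zero x, ?_⟩
  have hΛ := (newton_iff.1 (newton_lam x)).2
  have hmk : (PowerSeries.mk fun i => gamma i x) = gammaSeries x := by
    ext k; rw [PowerSeries.coeff_mk, coeff_gammaSeries]
  rw [hmk]
  change PowerSeries.derivative R (PowerSeries.subst (gS R) (lamSeries x)) = _
  rw [PowerSeries.derivative_subst hasSubst_gS,
    show PowerSeries.derivative R (lamSeries x) = altSeries (fun k => adamsOp k x) * lamSeries x
      from hΛ, PowerSeries.subst_mul hasSubst_gS, mul_right_comm]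
  congr 1
  have hd : PowerSeries.derivative R (gS R) = (PowerSeries.mk 1) ^ 2 := by
    ext n
    rw [PowerSeries.coeff_derivative, gS, PowerSeries.coeff_succ_X_mul,
      PowerSeries.mk_one_pow_eq_mk_choose_add R 1, PowerSeries.coeff_mk, PowerSeries.coeff_mk,
      Nat.choose_one_right, Pi.one_apply, one_mul, Nat.cast_add, Nat.cast_one, add_comm]
  ext m
  rw [hd, altSeries, altSeries, PowerSeries.coeff_mk, fwdDiff_iter_eq_sum_shift, mul_sum,
    PowerSeries.coeff_mul]
  have hterm : ∀ pq ∈ antidiagonal m, PowerSeries.coeff pq.1 (PowerSeries.subst (gS R)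
      (PowerSeries.mk fun i => (-1 : R) ^ i * adamsOp (i + 1) x)) *
      PowerSeries.coeff pq.2 ((PowerSeries.mk 1 : PowerSeries R) ^ 2) =
      ∑ i ∈ range (m + 1), (-1 : R) ^ i * adamsOp (i + 1) x *
        (PowerSeries.coeff pq.1 (gS R ^ i) *
          PowerSeries.coeff pq.2 ((PowerSeries.mk 1 : PowerSeries R) ^ 2)) := by
    intro pq hpq
    rw [mem_antidiagonal] at hpq
    rw [PowerSeries.coeff_subst' hasSubst_gS,
      finsum_eq_sum_of_support_subset (s := range (m + 1)), sum_mul]
    · refine sum_congr rfl fun i _ => ?_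
      rw [PowerSeries.coeff_mk, smul_eq_mul, mul_assoc]
    · intro d hd
      simp only [Function.mem_support] at hd
      by_contra hc
      simp only [coe_range, Set.mem_Iio, not_lt] at hc
      apply hd
      rw [coeff_gS_pow, if_neg (by omega), if_neg (by omega), smul_zero]
  rw [sum_congr rfl hterm, sum_comm, sum_range_succ' _ (m + 1)]
  simp only [zero_smul, add_zero]
  rw [show adamsOp 0 x = 0 from rfl, smul_zero, mul_zero, add_zero]
  refine sum_congr rfl fun i hi => ?_
  simp only [mem_range] at hi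
  rw [← mul_sum, ← PowerSeries.coeff_mul, gS, mul_pow, mul_assoc ((PowerSeries.X : PowerSeries R) ^ i), ← pow_add,
    PowerSeries.coeff_X_pow_mul', if_pos (by omega), PowerSeries.mk_one_pow_eq_mk_choose_add R (i + 1),
    PowerSeries.coeff_mk, show i + 1 + (m - i) = m + 1 by omega, zero_add,
    show (i + 1) • 1 = i + 1 by simp, zsmul_eq_mul, Int.cast_mul, Int.cast_pow, Int.cast_neg,
    Int.cast_one, Int.cast_natCast, Nat.add_sub_add_right]
  rw [show (-1 : R) ^ i = (-1) ^ m * (-1) ^ (m - i) by
    rw [← pow_add, show m + (m - i) = i + 2 * (m - i) by omega, pow_add, pow_mul, neg_one_sq,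
      one_pow, mul_one]]
  ring

theorem adamsOp_eq_sum_gh_gamma (x : R) (k : ℕ) :
    adamsOp k x = ∑ p ∈ range (k + 1), (k.choose p : R) * gh (fun i => gamma i x) p := by
  rw [binomial_sum_fwdDiff (fun k => adamsOp k x) k]
  refine sum_congr rfl fun p _ => ?_
  rcases p with - | p
  · simp [gh, adamsOp]
  · rw [gh_gamma x (by omega)]

theorem gamma_ghost_of_adamsOp (x : R) (a : ℕ → R) (ha : a 0 = 0)
    (h : ∀ k, 1 ≤ k → adamsOp k x = ∑ p ∈ range (k + 1), (k.choose p : R) * a p) {p : ℕ}
    (hp : 1 ≤ p) : gh (fun i => gamma i x) p = a p := by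
  rw [gh_gamma x hp]
  refine fwdDiff_eq_of_binomial_sum _ _ (fun k => ?_) p
  rcases k with - | k
  · simp [adamsOp, ha]
  · exact h _ (by omega)

end Groth.L08.Lambda
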