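import Groth.Agent.L08.Lambda.Core
import Mathlib.RingTheory.Ideal.Quotient.Operations

/-!
γ-operations of multiples of the top γ-operation of an element of bounded rank.
-/

universe u v

namespace Groth.L08.Lambda

open Finset LambdaRing fwdDiff MvPolynomial

namespace Mdl

variable {ι : Type} {d : ℕ}

/-- The product of the lines. -/
noncomputable def topProd (ι : Type) (d : ℕ) : Mdl ι (Fin d) :=
  ∏ a : Fin d, X (Sum.inr a)

theorem gamma_top : gamma d (N0 (ι := ι) (κ := Fin d)) = topProd ι d := by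
  rw [gamma_N0, esymm_map_val]
  conv_lhs => arg 1; arg 1; rw [show d = #(univ : Finset (Fin d)) by simp]
  rw [powersetCard_self, sum_singleton]
  rfl

theorem dvd_psi_topProd (k : ℕ) : topProd ι d ∣ psi k (topProd ι d) := by
  rw [topProd, map_prod]
  refine Finset.prod_dvd_prod_of_dvd _ _ fun a _ => ?_
  simp only [psi, aeval_X, Sum.elim_inr]
  simpa using sub_one_dvd_pow_sub_one (1 + (X (Sum.inr a) : Mdl ι (Fin d))) k

theorem topProd_dvd_gamma {z : Mdl ι (Fin d)} (hz : topProd ι d ∣ z) {n : ℕ} (hn : 1 ≤ n) :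
    topProd ι d ∣ gamma n z := by
  have hg : ∀ p, 1 ≤ p → topProd ι d ∣ gh (fun i => gamma i z) p := by
    intro p hp
    rw [gh_gamma z hp, fwdDiff_iter_eq_sum_shift]
    refine Finset.dvd_sum fun k _ => ?_
    rw [zsmul_eq_mul]
    refine Dvd.dvd.mul_left ?_ _
    rcases Nat.eq_zero_or_pos (0 + k • 1) with h | h
    · rw [h]; exact dvd_zero _
    · rw [adamsOp_eq h]
      exact (dvd_psi_topProd _).trans (map_dvd (psi _) hz)
  have hN := newton_gh (c := fun i => gamma i z) (gamma_zero z)
  induction n using Nat.strong_induction_on with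
  | _ n ih =>
    obtain ⟨m, rfl⟩ : ∃ m, n = m + 1 := ⟨n - 1, by omega⟩
    have h : topProd ι d ∣ ((m : Mdl ι (Fin d)) + 1) * gamma (m + 1) z := by
      rw [hN.2 m]
      exact Finset.dvd_sum fun i _ => ((hg _ (by omega)).mul_left _).mul_right _
    have hu : IsUnit ((m : Mdl ι (Fin d)) + 1) := by
      rw [show ((m : Mdl ι (Fin d)) + 1) = algebraMap ℚ _ ((m : ℚ) + 1) by
        rw [map_add, map_natCast, map_one]]
      exact (IsUnit.mk0 _ (by positivity)).map _
    exact hu.dvd_mul_left.1 h

/-- Setting the last variable to zero. -/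
noncomputable def dropLast (ι : Type) (d : ℕ) :
    Mdl ι (Fin (d + 1)) →ₐ[ℚ] Mdl ι (Fin d) :=
  aeval (Sum.elim (fun p => X (Sum.inl p))
    (Fin.lastCases (motive := fun _ => Mdl ι (Fin d)) 0 fun a => X (Sum.inr a)))

theorem dropLast_topProd : dropLast ι d (topProd ι (d + 1)) = 0 := by
  rw [topProd, map_prod]
  exact prod_eq_zero (mem_univ (Fin.last d)) (by simp [dropLast])

/-- Setting the top variable to zero. -/
noncomputable def dropTop (ι : Type) (d : ℕ) :
    MvPolynomial (GVar ι (d + 1)) ℤ →ₐ[ℤ] MvPolynomial (GVar ι d) ℤ :=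
  aeval (Sum.elim (fun p => X (Sum.inl p))
    (Fin.lastCases (motive := fun _ => MvPolynomial (GVar ι d) ℤ) 0 fun a => X (Sum.inr a)))

theorem dropLast_ev (q : MvPolynomial (GVar ι (d + 1)) ℤ) :
    dropLast ι d ((gens ι (d + 1)).ev q) = (gens ι d).ev (dropTop ι d q) := by
  refine RingHom.congr_fun (?_ : ((dropLast ι d).toRingHom.comp (gens ι (d + 1)).ev) =
    (gens ι d).ev.comp (dropTop ι d).toRingHom) q
  refine MvPolynomial.ringHom_ext (fun z => ?_) fun i => ?_
  · rw [eq_intCast C z, map_intCast, map_intCast]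
  simp only [RingHom.comp_apply, AlgHom.toRingHom_eq_coe, RingHom.coe_coe]
  have hN : ∀ j, dropLast ι d (gamma j (N0 (ι := ι) (κ := Fin (d + 1)))) =
      gamma j (N0 (ι := ι) (κ := Fin d)) := by
    intro j
    rw [gamma_N0, gamma_N0]
    change (dropLast ι d).toRingHom _ = _
    rw [map_multiset_esymm, Multiset.map_map, Fin.univ_castSuccEmb, Finset.cons_val,
      Finset.map_val, Multiset.map_cons, Multiset.map_map]
    have h0 : ((dropLast ι d).toRingHom ∘ fun a : Fin (d + 1) =>
        (X (Sum.inr a) : Mdl ι (Fin (d + 1)))) (Fin.last d) = 0 := by simp [dropLast]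
    rw [h0]
    rcases j with - | j
    · simp [Multiset.esymm]
    · rw [L22.Lambda.esymm_cons_succ, zero_mul, add_zero]
      congr 1
      exact Multiset.map_congr rfl fun a _ => by simp [dropLast]
  rcases i with ⟨l, m⟩ | a
  · rw [Gens.ev_inl]
    simp only [dropTop, aeval_X, Sum.elim_inl, Gens.ev_inl]
    change (dropLast ι d).toRingHom (gamma (m + 1) (pv l 1)) = gamma (m + 1) (pv l 1)
    rw [gamma_pv, gamma_pv, map_ofGh]
    refine ofGh_congr (m + 1) (fun p hp _ => ?_) _ le_rfl
    simp [dropLast, pv, show p ≠ 0 by omega]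
  · rw [Gens.ev_inr]
    change dropLast ι d (gamma _ N0) = _
    rw [hN]
    induction a using Fin.lastCases with
    | last =>
      rw [(gens ι d).gamma_N _ (by simp) |> fun h => (h : gamma ((Fin.last d : ℕ) + 1)
        (N0 (ι := ι) (κ := Fin d)) = 0)]
      simp [dropTop]
    | cast a =>
      simp only [dropTop, aeval_X, Sum.elim_inr, Fin.lastCases_castSucc, Gens.ev_inr,
        Fin.val_castSucc]
      rfl

theorem X_top_dvd {q : MvPolynomial (GVar ι (d + 1)) ℤ}
    (h : topProd ι (d + 1) ∣ (gens ι (d + 1)).ev q) :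
    X (Sum.inr (Fin.last d)) ∣ q := by
  have h0 : dropTop ι d q = 0 := by
    apply ev_injective ι d
    rw [map_zero, ← dropLast_ev]
    obtain ⟨r, hr⟩ := h
    rw [hr, map_mul, dropLast_topProd, zero_mul]
  rw [← Ideal.mem_span_singleton, ← Ideal.Quotient.eq_zero_iff_mem]
  set I := Ideal.span {(X (Sum.inr (Fin.last d)) : MvPolynomial (GVar ι (d + 1)) ℤ)} with hI
  have hid : (Ideal.Quotient.mk I).comp ((rename (Sum.map id Fin.castSucc) :
      MvPolynomial (GVar ι d) ℤ →ₐ[ℤ] MvPolynomial (GVar ι (d + 1)) ℤ).toRingHom.comp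
      (dropTop ι d).toRingHom) = Ideal.Quotient.mk I := by
    refine MvPolynomial.ringHom_ext (fun z => by simp) fun i => ?_
    rcases i with p | a
    · simp [dropTop]
    · induction a using Fin.lastCases with
      | last =>
        simp only [RingHom.comp_apply, AlgHom.toRingHom_eq_coe, RingHom.coe_coe, dropTop, aeval_X,
          Sum.elim_inr, Fin.lastCases_last, map_zero]
        exact (Ideal.Quotient.eq_zero_iff_mem.2 (Ideal.mem_span_singleton.2 dvd_rfl)).symm
      | cast a => simp [dropTop]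
  have := RingHom.congr_fun hid q
  rw [RingHom.comp_apply, RingHom.comp_apply] at this
  rw [← this]
  simp [h0]

end Mdl

theorem comp_X_mul {σ : Type*} {R : Type u} [CommRing R] (w : σ → ℕ) (i : σ)
    (p : MvPolynomial σ R) (D : ℕ) : comp w (D + w i) (X i * p) = X i * comp w D p := by
  rw [Groth.L08.Lambda.comp, Groth.L08.Lambda.comp, map_mul, θ_X, mul_assoc,
    PowerSeries.coeff_C_mul, PowerSeries.coeff_X_pow_mul]

variable {A : Type u} [CommRing A] [LambdaOps A] {ι : Type}

/-- γ^n of a product with the top γ-operation is divisible by it, with the weight estimate. -/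
theorem gamma_core_div (hA : IsSpecial A) {d : ℕ} (G : Gens ι d A)
    (p : MvPolynomial (GVar ι d) ℤ) {i : ℕ} (hi : 1 ≤ i + d) (hp : HighWt gwt i p) {n : ℕ}
    (hn : 1 ≤ n) :
    ∃ q, gamma d G.N * G.ev q = gamma n (G.ev p * gamma d G.N) ∧
      HighWt gwt (max n (i + d) - d) q ∧
      (n = i + d → comp gwt i q = (-1) ^ (i + d - 1) *
        ((i + d - 1).factorial : MvPolynomial (GVar ι d) ℤ) * comp gwt i p) := by
  rcases d with - | d
  · obtain ⟨q, h1, -, h2, h3⟩ := gamma_core hA G p (by omega) hp hn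
    refine ⟨q, ?_, h2, fun h => h3 (by omega)⟩
    rw [gamma_zero, one_mul, mul_one, h1]
  set t : MvPolynomial (GVar ι (d + 1)) ℤ := X (Sum.inr (Fin.last d)) with ht
  have hw : gwt (ι := ι) (Sum.inr (Fin.last d)) = d + 1 := by simp [gwt]
  have hpt : HighWt gwt (i + (d + 1)) (p * t) := by
    have h := highWt_X (A := ℤ) (gwt (ι := ι) (d := d + 1)) (Sum.inr (Fin.last d))
    rw [hw] at h
    exact hp.mul _ h
  obtain ⟨q, h1, h1', h2, h3⟩ := gamma_core hA G (p * t) (by omega) hpt hn
  have hG : ∀ {B : Type u} [CommRing B] [LambdaOps B] (G : Gens ι (d + 1) B),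
      G.ev t = gamma (d + 1) G.N := fun G => by rw [ht, Gens.ev_inr, Fin.val_last]
  have hdiv : t ∣ q := by
    refine Mdl.X_top_dvd ?_
    rw [h1']
    refine Mdl.topProd_dvd_gamma ?_ hn
    rw [map_mul, ht, Gens.ev_inr, Fin.val_last]
    exact Dvd.intro_left _ (congrArg (_ * ·) (Mdl.gamma_top).symm)
  obtain ⟨r, rfl⟩ := hdiv
  have hshift : ∀ D, comp gwt (D + (d + 1)) (t * r) = t * comp gwt D r := fun D => by
    have h := comp_X_mul (gwt (ι := ι) (d := d + 1)) (Sum.inr (Fin.last d)) r D
    rwa [hw] at h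
  have ht0 : t ≠ 0 := MvPolynomial.X_ne_zero _
  refine ⟨r, ?_, fun D hD => ?_, fun h => ?_⟩
  · rw [← hG G, ← map_mul, h1, map_mul]
  · have := h2 (D + (d + 1)) (by omega)
    rw [hshift, mul_eq_zero] at this
    exact this.resolve_left ht0
  · have := h3 h
    have hp' : comp gwt (i + (d + 1)) (p * t) = t * comp gwt i p := by
      have h := comp_X_mul (gwt (ι := ι) (d := d + 1)) (Sum.inr (Fin.last d)) p i
      rw [hw] at h
      rw [mul_comm p t]
      exact h
    rw [hshift, hp'] at this
    refine mul_left_cancel₀ ht0 ?_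
    rw [this]
    ring

end Groth.L08.Lambda
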