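import Groth.Agent.L08.Lambda.SplitSpecial
import Mathlib.LinearAlgebra.Eigenspace.Basic
import Mathlib.RingTheory.TensorProduct.Basic
import Mathlib.Algebra.Polynomial.Derivative
import Mathlib.Algebra.Polynomial.AlgebraMap

/-!
The eigenspace decomposition for the Adams operations on the rationalised ring.
-/

universe u

namespace Groth.L08.Lambda

open Finset LambdaRing TensorProduct

section Linear

variable {V : Type u} [AddCommGroup V] [Module ℚ V] {Ψ : Module.End ℚ V} {a : ℕ → ℚ}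
  {QF : ℕ → Submodule ℚ V} {d : ℕ}

/-- A filtration on which an endomorphism acts on each quotient by a scalar. -/
structure EigenFil (Ψ : Module.End ℚ V) (a : ℕ → ℚ) (QF : ℕ → Submodule ℚ V) (d : ℕ) : Prop where
  antitone : ∀ {p q : ℕ}, p ≤ q → QF q ≤ QF p
  bot : QF (d + 1) = ⊥
  top : QF 0 = ⊤
  act : ∀ p, ∀ y ∈ QF p, Ψ y - a p • y ∈ QF (p + 1)
  inj : Function.Injective a

namespace EigenFil

variable (h : EigenFil Ψ a QF d)
include h

theorem eq_zero_of_le {p : ℕ} (hp : d < p) {y : V} (hy : y ∈ QF p) : y = 0 := by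
  have := h.antitone (show d + 1 ≤ p by omega) hy
  rwa [h.bot, Submodule.mem_bot] at this

theorem bijOn {m p : ℕ} (hmp : m < p) :
    (∀ y ∈ QF p, ∃ z ∈ QF p, Ψ z - a m • z = y) ∧ ∀ y ∈ QF p, Ψ y - a m • y = 0 → y = 0 := by
  induction ht : d + 1 - p generalizing p with
  | zero =>
    constructor
    · intro y hy
      exact ⟨0, zero_mem _, by rw [h.eq_zero_of_le (by omega) hy]; simp⟩
    · exact fun y hy _ => h.eq_zero_of_le (by omega) hy
  | succ t ih =>
    obtain ⟨hs, hi⟩ := ih (p := p + 1) (by omega) (by omega)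
    have hne : a p - a m ≠ 0 := sub_ne_zero.2 fun e => absurd (h.inj e) (by omega)
    constructor
    · intro y hy
      have h1 : (a p - a m)⁻¹ • y ∈ QF p := Submodule.smul_mem _ _ hy
      obtain ⟨z, hz, hz'⟩ := hs _ (h.act p _ h1)
      refine ⟨(a p - a m)⁻¹ • y - z, sub_mem h1 (h.antitone (by omega) hz), ?_⟩
      rw [map_sub, smul_sub, map_smul, smul_smul,
        show Ψ z = a m • z + (Ψ ((a p - a m)⁻¹ • y) - a p • (a p - a m)⁻¹ • y) by rw [← hz']; abel,
        map_smul, smul_smul]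
      rw [show ((a p - a m)⁻¹ • Ψ y - (a m • z + ((a p - a m)⁻¹ • Ψ y - (a p * (a p - a m)⁻¹) • y))) -
        ((a m * (a p - a m)⁻¹) • y - a m • z) = (a p * (a p - a m)⁻¹ - a m * (a p - a m)⁻¹) • y by
          rw [sub_smul]; abel, ← sub_mul, mul_inv_cancel₀ hne, one_smul]
    · intro y hy h0
      have h1 : (a m - a p) • y ∈ QF (p + 1) := by
        rw [sub_smul, ← sub_eq_zero.1 h0]
        exact h.act p y hy
      have h2 : y ∈ QF (p + 1) := by
        have := Submodule.smul_mem _ (a m - a p)⁻¹ h1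
        rwa [smul_smul, inv_mul_cancel₀ (sub_ne_zero.2 fun e => absurd (h.inj e) (by omega)),
          one_smul] at this
      exact hi y h2 h0

theorem eigenspace_le (m : ℕ) : Module.End.eigenspace Ψ (a m) ≤ QF m := by
  intro y hy
  rw [Module.End.mem_eigenspace_iff] at hy
  suffices ∀ p ≤ m, y ∈ QF p from this m le_rfl
  intro p
  induction p with
  | zero => intro _; rw [h.top]; trivial
  | succ p ih =>
    intro hp
    have h1 := h.act p y (ih (by omega))
    rw [hy, ← sub_smul] at h1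
    have := Submodule.smul_mem _ (a m - a p)⁻¹ h1
    rwa [smul_smul, inv_mul_cancel₀ (sub_ne_zero.2 fun e => absurd (h.inj e) (by omega)),
      one_smul] at this

theorem sup_eq (m : ℕ) : Module.End.eigenspace Ψ (a m) ⊔ QF (m + 1) = QF m := by
  refine le_antisymm (sup_le (h.eigenspace_le m) (h.antitone (by omega))) fun y hy => ?_
  obtain ⟨z, hz, hz'⟩ := (h.bijOn (m := m) (p := m + 1) (by omega)).1 _ (h.act m y hy)
  refine Submodule.mem_sup.2 ⟨y - z, ?_, z, hz, by abel⟩
  rw [Module.End.mem_eigenspace_iff, map_sub, smul_sub,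
    show Ψ z = a m • z + (Ψ y - a m • y) by rw [← hz']; abel]
  abel

theorem inf_eq (m : ℕ) : Module.End.eigenspace Ψ (a m) ⊓ QF (m + 1) = ⊥ := by
  rw [eq_bot_iff]
  rintro y ⟨hy, hy'⟩
  rw [Submodule.mem_bot]
  refine (h.bijOn (m := m) (p := m + 1) (by omega)).2 y hy' ?_
  rw [Module.End.mem_eigenspace_iff.1 hy, sub_self]

theorem iSup_eq_top : (⨆ m ∈ range (d + 1), Module.End.eigenspace Ψ (a m)) = ⊤ := by
  rw [eq_top_iff, ← h.top]
  suffices ∀ t p, t + p = d + 1 → QF p ≤ ⨆ m ∈ range (d + 1), Module.End.eigenspace Ψ (a m) from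
    this (d + 1) 0 rfl
  intro t
  induction t with
  | zero =>
    intro p hp
    rw [show p = d + 1 by omega, h.bot]
    exact bot_le
  | succ t ih =>
    intro p hp
    rw [← h.sup_eq p]
    refine sup_le ?_ (ih (p + 1) (by omega))
    exact le_iSup₂ (f := fun m (_ : m ∈ range (d + 1)) => Module.End.eigenspace Ψ (a m)) p
      (by simp; omega)

theorem eigenspace_le_of_comm {Φ : Module.End ℚ V} {b : ℕ → ℚ} (h' : EigenFil Φ b QF d)
    (hc : ∀ y, Ψ (Φ y) = Φ (Ψ y)) (m : ℕ) :
    Module.End.eigenspace Ψ (a m) ≤ Module.End.eigenspace Φ (b m) := by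
  intro y hy
  rw [Module.End.mem_eigenspace_iff, ← sub_eq_zero]
  have h1 : Φ y - b m • y ∈ QF (m + 1) := h'.act m y (h.eigenspace_le m hy)
  refine (h.bijOn (m := m) (p := m + 1) (by omega)).2 _ h1 ?_
  rw [Module.End.mem_eigenspace_iff] at hy
  rw [map_sub, map_smul, hc, hy, map_smul, smul_sub, smul_comm (a m) (b m)]
  abel

end EigenFil

end Linear

section Adams

variable {K : Type u} [CommRing K] [LambdaOps K] (P : PosStructure K)

/-- The rationalised γ-filtration. -/
def ratFil (n : ℕ) : Submodule ℚ (ℚ ⊗[ℤ] K) :=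
  Submodule.span ℚ ((fun x : K => (1 : ℚ) ⊗ₜ[ℤ] x) '' (gammaFiltration P n : Set K))

theorem rat_tmul (q : ℚ) (x : K) : q ⊗ₜ[ℤ] x = q • ((1 : ℚ) ⊗ₜ[ℤ] x) := by
  rw [TensorProduct.smul_tmul', smul_eq_mul, mul_one]

theorem ratFil_zero : ratFil P 0 = ⊤ := by
  rw [eq_top_iff]
  rintro z -
  induction z using TensorProduct.induction_on with
  | zero => exact zero_mem _
  | tmul q x =>
    rw [rat_tmul]
    exact Submodule.smul_mem _ _ (Submodule.subset_span ⟨x, by simp [gammaFiltration], rfl⟩)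
  | add a b ha hb => exact add_mem ha hb

theorem eigenFil (hK : HasSplitting K P) {d : ℕ} (hd : gammaFiltration P (d + 1) = ⊥) {j : ℕ}
    (hj : 2 ≤ j) (Ψ : ℚ ⊗[ℤ] K →ₗ[ℚ] ℚ ⊗[ℤ] K)
    (hΨ : ∀ x : K, Ψ (1 ⊗ₜ[ℤ] x) = 1 ⊗ₜ[ℤ] adams P j x) :
    EigenFil Ψ (fun m => (j : ℚ) ^ m) (ratFil P) d := by
  refine ⟨fun h => Submodule.span_mono (Set.image_mono (gammaFiltration_antitone P h)), ?_,
    ratFil_zero P, fun p y hy => ?_, pow_right_injective₀ (by positivity) (by exact_mod_cast (show j ≠ 1 by omega))⟩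
  · rw [ratFil, hd, AddSubgroup.coe_bot, Set.image_singleton, tmul_zero,
      Submodule.span_zero_singleton]
  · induction hy using Submodule.span_induction with
    | mem z hz =>
      obtain ⟨x, hx, rfl⟩ := hz
      refine Submodule.subset_span ⟨_, adams_sub_mem P hK (k := j) (by omega) p x hx, ?_⟩
      simp only
      rw [hΨ, tmul_sub, TensorProduct.smul_tmul', smul_eq_mul, mul_one,
        show (j : K) ^ p * x = ((j ^ p : ℕ) : ℤ) • x by push_cast; simp [zsmul_eq_mul],
        ← TensorProduct.smul_tmul, zsmul_eq_mul, mul_one]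
      push_cast
      rfl
    | zero => simp
    | add a b _ _ ha hb => rw [map_add, smul_add, add_sub_add_comm]; exact add_mem ha hb
    | smul c a _ ha => rw [map_smul, smul_comm, ← smul_sub]; exact Submodule.smul_mem _ _ ha

theorem rat_adams_comm (hK : HasSplitting K P) {j l : ℕ}
    (Ψj Ψl : ℚ ⊗[ℤ] K →ₗ[ℚ] ℚ ⊗[ℤ] K)
    (hΨj : ∀ x : K, Ψj (1 ⊗ₜ[ℤ] x) = 1 ⊗ₜ[ℤ] adams P j x)
    (hΨl : ∀ x : K, Ψl (1 ⊗ₜ[ℤ] x) = 1 ⊗ₜ[ℤ] adams P l x) (y : ℚ ⊗[ℤ] K) :
    Ψj (Ψl y) = Ψl (Ψj y) := by
  induction y using TensorProduct.induction_on with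
  | zero => simp
  | tmul q x =>
    rw [rat_tmul, map_smul, map_smul, map_smul, map_smul, hΨl, hΨj, hΨj, hΨl,
      adams_adams P hK, adams_adams P hK, mul_comm]
  | add a b ha hb => simp only [map_add, ha, hb]

/-- The truncated logarithm. -/
noncomputable def logPoly (d : ℕ) : Polynomial ℚ :=
  ∑ n ∈ range (d + 1), Polynomial.C ((-1 : ℚ) ^ n / ((n : ℚ) + 1)) * Polynomial.X ^ (n + 1)

theorem derivative_logPoly (d : ℕ) :
    Polynomial.derivative (logPoly d) = ∑ n ∈ range (d + 1), (-Polynomial.X) ^ n := by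
  rw [logPoly, map_sum]
  refine sum_congr rfl fun n _ => ?_
  rw [Polynomial.derivative_C_mul_X_pow, Nat.add_sub_cancel, Nat.cast_succ,
    div_mul_cancel₀ _ (by positivity), neg_pow (Polynomial.X : Polynomial ℚ), map_pow, map_neg, map_one]

theorem X_pow_dvd_logPoly (d j : ℕ) (hj : 1 ≤ j) :
    (Polynomial.X : Polynomial ℚ) ^ (d + 1) ∣
      (logPoly d).comp ((1 + Polynomial.X) ^ j - 1) - Polynomial.C (j : ℚ) * logPoly d := by
  set q : Polynomial ℚ := (1 + Polynomial.X) ^ j - 1 with hq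
  set D := (logPoly d).comp q - Polynomial.C (j : ℚ) * logPoly d with hD
  set G := ∑ n ∈ range (d + 1), (-Polynomial.X : Polynomial ℚ) ^ n with hG
  have hgeom : G * (1 + Polynomial.X) = 1 - (-Polynomial.X) ^ (d + 1) := by
    have := geom_sum_mul_neg (-Polynomial.X : Polynomial ℚ) (d + 1)
    rwa [sub_neg_eq_add] at this
  have hXq : Polynomial.X ∣ q := by
    have := sub_one_dvd_pow_sub_one (1 + Polynomial.X : Polynomial ℚ) j
    rwa [add_sub_cancel_left] at this
  have hgeom' : G.comp q * (1 + q) = 1 - (-q) ^ (d + 1) := by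
    simpa using congrArg (fun f : Polynomial ℚ => f.comp q) hgeom
  have hder : Polynomial.derivative D * (1 + Polynomial.X) =
      Polynomial.C (j : ℚ) * ((-Polynomial.X) ^ (d + 1) - (-q) ^ (d + 1)) := by
    rw [hD, Polynomial.derivative_sub, Polynomial.derivative_comp, Polynomial.derivative_C_mul,
      derivative_logPoly, ← hG]
    have hq' : Polynomial.derivative q * (1 + Polynomial.X) = Polynomial.C (j : ℚ) * (1 + q) := by
      rw [hq, Polynomial.derivative_sub, Polynomial.derivative_one, sub_zero,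
        Polynomial.derivative_pow, Polynomial.derivative_add, Polynomial.derivative_one,
        Polynomial.derivative_X, zero_add, mul_one, mul_assoc, ← pow_succ,
        show j - 1 + 1 = j by omega, add_sub_cancel]
    linear_combination G.comp q * hq' - Polynomial.C (j : ℚ) * hgeom +
      Polynomial.C (j : ℚ) * hgeom'
  have hdvd : (Polynomial.X : Polynomial ℚ) ^ (d + 1) ∣
      Polynomial.derivative D * (1 + Polynomial.X) := by
    rw [hder]
    refine Dvd.dvd.mul_left (dvd_sub (pow_dvd_pow_of_dvd ?_ _) (pow_dvd_pow_of_dvd ?_ _)) _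
    · exact (dvd_neg (α := Polynomial ℚ)).2 dvd_rfl
    · exact (dvd_neg (α := Polynomial ℚ)).2 hXq
  have hcop : ∀ m, m < d + 1 → (Polynomial.derivative D).coeff m = 0 := by
    intro m
    induction m using Nat.strong_induction_on with
    | _ m ih =>
      intro hm
      have h := Polynomial.X_pow_dvd_iff.1 hdvd m hm
      rw [mul_add, mul_one, Polynomial.coeff_add] at h
      rcases m with - | m
      · simpa using h
      · rw [Polynomial.coeff_mul_X, ih m (by omega) (by omega), add_zero] at h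
        exact h
  rw [Polynomial.X_pow_dvd_iff]
  intro m hm
  rcases m with - | m
  · rw [Polynomial.coeff_zero_eq_eval_zero, hD]
    simp [logPoly, hq, Polynomial.eval_finsetSum]
  · have h := hcop m (by omega)
    rw [Polynomial.coeff_derivative, mul_eq_zero] at h
    exact h.resolve_right (by positivity)

end Adams

end Groth.L08.Lambda
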