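import Mathlib.RingTheory.PowerSeries.Basic
import Mathlib.Algebra.MvPolynomial.Eval
import Mathlib.Algebra.MvPolynomial.Monad
import Mathlib.Algebra.Polynomial.Eval.Defs
import Mathlib.Algebra.Polynomial.Degree.Lemmas

/-!
Weight gradings of polynomial rings through a generating series.
-/

universe u v

namespace Groth.L08.Lambda

open Finset MvPolynomial

section

variable {σ : Type*} {A : Type u} [CommRing A] (w : σ → ℕ)

/-- The series of weight components. -/
noncomputable def θ : MvPolynomial σ A →+* PowerSeries (MvPolynomial σ A) :=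
  eval₂Hom ((PowerSeries.C).comp C) (fun i => PowerSeries.C (X i) * PowerSeries.X ^ w i)

theorem θ_X (i : σ) : θ (A := A) w (X i) = PowerSeries.C (X i) * PowerSeries.X ^ w i :=
  eval₂Hom_X' _ _ i

theorem θ_C (a : A) : θ w (C a : MvPolynomial σ A) = PowerSeries.C (C a) := eval₂Hom_C _ _ a

/-- The component of weight `D`. -/
noncomputable def comp (D : ℕ) (p : MvPolynomial σ A) : MvPolynomial σ A :=
  PowerSeries.coeff D (θ w p)

theorem comp_add (D : ℕ) (p q : MvPolynomial σ A) : comp w D (p + q) = comp w D p + comp w D q := by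
  simp [comp]

theorem comp_mul (D : ℕ) (p q : MvPolynomial σ A) :
    comp w D (p * q) = ∑ x ∈ antidiagonal D, comp w x.1 p * comp w x.2 q := by
  simp [comp, PowerSeries.coeff_mul]

/-- All components of weight `< M` vanish. -/
def HighWt (M : ℕ) (p : MvPolynomial σ A) : Prop := ∀ D < M, comp w D p = 0

theorem θ_monomial (e : σ →₀ ℕ) (a : A) :
    θ w (monomial e a) =
      PowerSeries.C (monomial e a) * PowerSeries.X ^ (e.sum fun i n => n * w i) := by
  rw [monomial_eq, map_mul, θ_C, Finsupp.prod, map_prod, map_mul PowerSeries.C, map_prod,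
    Finsupp.sum, ← prod_pow_eq_pow_sum, mul_assoc, ← prod_mul_distrib]
  congr 1
  refine prod_congr rfl fun i _ => ?_
  rw [map_pow, θ_X, mul_pow, map_pow, ← pow_mul, mul_comm (e i)]

theorem coeff_comp (D : ℕ) (p : MvPolynomial σ A) (e : σ →₀ ℕ) :
    coeff e (comp w D p) = if (e.sum fun i n => n * w i) = D then coeff e p else 0 := by
  induction p using MvPolynomial.induction_on' with
  | monomial f a =>
    rw [comp, θ_monomial, PowerSeries.coeff_C_mul, PowerSeries.coeff_X_pow]
    classical
    split_ifs with h1 h2 h2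
    · rw [mul_one]
    · rw [mul_one, coeff_monomial, if_neg]
      rintro rfl
      exact h2 h1.symm
    · rw [mul_zero, coeff_zero, coeff_monomial, if_neg]
      rintro rfl
      exact h1 h2.symm
    · rw [mul_zero, coeff_zero]
  | add p q hp hq =>
    rw [comp_add, coeff_add, hp, hq, coeff_add]
    split_ifs <;> simp

theorem HighWt.le_of_mem {M : ℕ} {p : MvPolynomial σ A} (h : HighWt w M p) {e : σ →₀ ℕ}
    (he : e ∈ p.support) : M ≤ e.sum fun i n => n * w i := by
  by_contra hc
  have := congrArg (coeff e) (h _ (not_le.1 hc))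
  rw [coeff_comp, if_pos rfl, coeff_zero] at this
  exact (mem_support_iff.1 he) this

theorem HighWt.zero (M : ℕ) : HighWt w M (0 : MvPolynomial σ A) := fun D _ => by simp [comp]

theorem HighWt.weight_zero (p : MvPolynomial σ A) : HighWt w 0 p :=
  fun D hD => absurd hD (Nat.not_lt_zero D)

theorem HighWt.mono {M N : ℕ} {p : MvPolynomial σ A} (h : HighWt w N p) (hMN : M ≤ N) :
    HighWt w M p :=
  fun D hD => h D (by omega)

theorem HighWt.add {M : ℕ} {p q : MvPolynomial σ A} (hp : HighWt w M p) (hq : HighWt w M q) :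
    HighWt w M (p + q) :=
  fun D hD => by rw [comp_add, hp D hD, hq D hD, add_zero]

theorem HighWt.sum {ι : Type*} {M : ℕ} {s : Finset ι} {f : ι → MvPolynomial σ A}
    (h : ∀ i ∈ s, HighWt w M (f i)) : HighWt w M (∑ i ∈ s, f i) := by
  classical
  induction s using Finset.induction with
  | empty => simpa using HighWt.zero w M
  | insert a s ha ih =>
    rw [sum_insert ha]
    exact (h a (mem_insert_self a s)).add w (ih fun i hi => h i (mem_insert_of_mem hi))

theorem HighWt.mul {M N : ℕ} {p q : MvPolynomial σ A} (hp : HighWt w M p) (hq : HighWt w N q) :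
    HighWt w (M + N) (p * q) := by
  intro D hD
  rw [comp_mul]
  refine sum_eq_zero fun x hx => ?_
  rw [mem_antidiagonal] at hx
  rcases Nat.lt_or_ge x.1 M with h | h
  · rw [hp _ h, zero_mul]
  · rw [hq _ (by omega), mul_zero]

theorem comp_mul_lead {M N : ℕ} {p q : MvPolynomial σ A} (hp : HighWt w M p) (hq : HighWt w N q) :
    comp w (M + N) (p * q) = comp w M p * comp w N q := by
  rw [comp_mul, sum_eq_single (M, N)]
  · intro x hx hne
    rw [mem_antidiagonal] at hx
    rcases Nat.lt_or_ge x.1 M with h | h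
    · rw [hp _ h, zero_mul]
    · rcases Nat.lt_or_ge x.2 N with h' | h'
      · rw [hq _ h', mul_zero]
      · exact absurd (Prod.ext (by omega) (by omega)) hne
  · intro h; simp at h

theorem HighWt.const_mul {M : ℕ} {p : MvPolynomial σ A} (q : MvPolynomial σ A) (hp : HighWt w M p) :
    HighWt w M (q * p) := by
  have := (HighWt.weight_zero w q).mul w hp
  rwa [zero_add] at this

theorem comp_C_mul (D : ℕ) (a : A) (p : MvPolynomial σ A) :
    comp w D (C a * p) = C a * comp w D p := by
  simp [comp, θ_C]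

theorem comp_natCast_mul (D n : ℕ) (p : MvPolynomial σ A) :
    comp w D ((n : MvPolynomial σ A) * p) = (n : MvPolynomial σ A) * comp w D p := by
  rw [← map_natCast (C : A →+* MvPolynomial σ A), comp_C_mul]

theorem comp_neg_one_pow_mul (D n : ℕ) (p : MvPolynomial σ A) :
    comp w D ((-1) ^ n * p) = (-1) ^ n * comp w D p := by
  rw [← map_one (C : A →+* MvPolynomial σ A), ← map_neg, ← map_pow, comp_C_mul]

theorem comp_neg (D : ℕ) (p : MvPolynomial σ A) : comp w D (-p) = -comp w D p := by
  simp [comp]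

theorem comp_sub (D : ℕ) (p q : MvPolynomial σ A) : comp w D (p - q) = comp w D p - comp w D q := by
  simp [comp]

theorem HighWt.neg {M : ℕ} {p : MvPolynomial σ A} (hp : HighWt w M p) : HighWt w M (-p) :=
  fun D hD => by rw [comp_neg, hp D hD, neg_zero]

theorem HighWt.sub {M : ℕ} {p q : MvPolynomial σ A} (hp : HighWt w M p) (hq : HighWt w M q) :
    HighWt w M (p - q) :=
  fun D hD => by rw [comp_sub, hp D hD, hq D hD, sub_zero]

theorem HighWt.succ {M : ℕ} {p : MvPolynomial σ A} (hp : HighWt w M p) (h : comp w M p = 0) :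
    HighWt w (M + 1) p := fun D hD => by
  rcases Nat.lt_or_ge D M with h' | h'
  · exact hp D h'
  · rwa [show D = M by omega]

theorem highWt_X (i : σ) : HighWt w (w i) (X i : MvPolynomial σ A) := fun D hD => by
  rw [comp, θ_X, PowerSeries.coeff_C_mul, PowerSeries.coeff_X_pow, if_neg (by omega), mul_zero]

theorem HighWt.of_le_of_mem {M : ℕ} {p : MvPolynomial σ A}
    (h : ∀ e ∈ p.support, M ≤ e.sum fun i n => n * w i) : HighWt w M p := by
  intro D hD
  ext e
  rw [coeff_comp, coeff_zero]
  split_ifs with he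
  · by_contra hc
    have := h e (mem_support_iff.2 hc)
    omega
  · rfl

end

section Hom

variable {σ τ : Type*} {A : Type u} [CommRing A] {B : Type v} [CommRing B]

/-- Weight-preserving maps commute with the components. -/
theorem map_comp (w : σ → ℕ) (w' : τ → ℕ) (f : MvPolynomial σ A →+* MvPolynomial τ B)
    (hC : ∀ a, θ w' (f (C a)) = PowerSeries.C (f (C a)))
    (hX : ∀ i, θ w' (f (X i)) = PowerSeries.C (f (X i)) * PowerSeries.X ^ w i)
    (D : ℕ) (p : MvPolynomial σ A) : comp w' D (f p) = f (comp w D p) := by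
  have h : (θ w').comp f = (PowerSeries.map f).comp (θ w) := by
    refine MvPolynomial.ringHom_ext (fun a => ?_) fun i => ?_
    · rw [RingHom.comp_apply, RingHom.comp_apply, θ_C, hC, PowerSeries.map_C]
    · rw [RingHom.comp_apply, RingHom.comp_apply, θ_X, hX, map_mul, map_pow, PowerSeries.map_C,
        PowerSeries.map_X]
  have h' := congrArg (PowerSeries.coeff D) (RingHom.congr_fun h p)
  rwa [RingHom.comp_apply, RingHom.comp_apply, PowerSeries.coeff_map] at h'

end Hom

section Deg

variable {B : Type u} [CommRing B]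

/-- The function is given by a polynomial of degree at most `D`. -/
def DegLe (D : ℕ) (f : ℕ → B) : Prop :=
  ∃ F : Polynomial B, F.natDegree ≤ D ∧ ∀ k : ℕ, f k = F.eval (k : B)

theorem DegLe.const (D : ℕ) (b : B) : DegLe D (fun _ => b) :=
  ⟨Polynomial.C b, by simp, fun k => by simp⟩

theorem DegLe.add {D : ℕ} {f g : ℕ → B} (hf : DegLe D f) (hg : DegLe D g) :
    DegLe D (fun k => f k + g k) := by
  obtain ⟨F, hF, hF'⟩ := hf
  obtain ⟨G, hG, hG'⟩ := hg
  exact ⟨F + G, Polynomial.natDegree_add_le_of_degree_le hF hG, fun k => by simp [hF', hG']⟩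

theorem DegLe.mul {D E : ℕ} {f g : ℕ → B} (hf : DegLe D f) (hg : DegLe E g) :
    DegLe (D + E) (fun k => f k * g k) := by
  obtain ⟨F, hF, hF'⟩ := hf
  obtain ⟨G, hG, hG'⟩ := hg
  exact ⟨F * G, Polynomial.natDegree_mul_le_of_le hF hG, fun k => by simp [hF', hG']⟩

theorem DegLe.mono {D E : ℕ} {f : ℕ → B} (hf : DegLe D f) (h : D ≤ E) : DegLe E f := by
  obtain ⟨F, hF, hF'⟩ := hf
  exact ⟨F, hF.trans h, hF'⟩

theorem DegLe.sum {ι : Type*} {D : ℕ} {s : Finset ι} {f : ι → ℕ → B}
    (h : ∀ i ∈ s, DegLe D (f i)) : DegLe D (fun k => ∑ i ∈ s, f i k) := by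
  classical
  induction s using Finset.induction with
  | empty => simpa using DegLe.const D (0 : B)
  | insert a s ha ih =>
    simp only [sum_insert ha]
    exact (h a (mem_insert_self a s)).add (ih fun i hi => h i (mem_insert_of_mem hi))

theorem DegLe.congr {D : ℕ} {f g : ℕ → B} (hf : DegLe D f) (h : ∀ k, f k = g k) : DegLe D g := by
  obtain ⟨F, hF, hF'⟩ := hf
  exact ⟨F, hF, fun k => (h k).symm.trans (hF' k)⟩

end Deg

end Groth.L08.Lambda
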