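import Groth.Agent.L08.Lambda.Transfer
import Groth.Agent.L08.Lambda.Grade

/-!
Multiplicative filtrations by ideals and the γ-filtration.
-/

universe u v

namespace Groth.L08.Lambda

open Finset LambdaRing

/-- A decreasing multiplicative filtration by ideals, starting with the whole ring. -/
structure Filt (A : Type u) [CommRing A] where
  /-- the ideals -/
  W : ℕ → Ideal A
  antitone : ∀ {m n : ℕ}, m ≤ n → W n ≤ W m
  one_mem : (1 : A) ∈ W 0
  mul_mem : ∀ {m n : ℕ} {a b : A}, a ∈ W m → b ∈ W n → a * b ∈ W (m + n)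

namespace Filt

variable {A : Type u} [CommRing A] (F : Filt A)

theorem mem_zero (a : A) : a ∈ F.W 0 := by
  simpa using (F.W 0).mul_mem_left a F.one_mem

theorem pow_mem {m : ℕ} {a : A} (h : a ∈ F.W m) (n : ℕ) : a ^ n ∈ F.W (n * m) := by
  induction n with
  | zero => rw [zero_mul, pow_zero]; exact F.one_mem
  | succ n ih => rw [pow_succ, Nat.succ_mul]; exact F.mul_mem ih h

theorem prod_mem {κ : Type*} (s : Finset κ) (f : κ → A) (r : κ → ℕ)
    (h : ∀ i ∈ s, f i ∈ F.W (r i)) : ∏ i ∈ s, f i ∈ F.W (∑ i ∈ s, r i) := by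
  classical
  induction s using Finset.induction with
  | empty => simpa using F.one_mem
  | insert a s ha ih =>
    rw [prod_insert ha, sum_insert ha]
    exact F.mul_mem (h a (mem_insert_self a s)) (ih fun i hi => h i (mem_insert_of_mem hi))

theorem list_prod_mem {α : Type*} (l : List α) (f : α → A) (r : α → ℕ)
    (h : ∀ p ∈ l, f p ∈ F.W (r p)) : (l.map f).prod ∈ F.W (l.map r).sum := by
  induction l with
  | nil => simpa using F.one_mem
  | cons a l ih =>
    simp only [List.map_cons, List.prod_cons, List.sum_cons]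
    exact F.mul_mem (h a List.mem_cons_self) (ih fun p hp => h p (List.mem_cons_of_mem _ hp))

theorem ev_mem [LambdaOps A] {ι : Type} {d : ℕ} (G : Gens ι d A)
    (hx : ∀ l j, gamma (j + 1) (G.x l) ∈ F.W (j + 1))
    (hN : ∀ j, j < d → gamma (j + 1) G.N ∈ F.W (j + 1)) {M : ℕ}
    {q : MvPolynomial (GVar ι d) ℤ} (hq : HighWt gwt M q) : G.ev q ∈ F.W M := by
  rw [q.as_sum, map_sum]
  refine Ideal.sum_mem _ fun e he => F.antitone (hq.le_of_mem gwt he) ?_
  rw [MvPolynomial.monomial_eq, map_mul, Finsupp.prod, map_prod, Finsupp.sum]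
  refine (F.W _).mul_mem_left _ (F.prod_mem _ _ _ fun i _ => ?_)
  rw [map_pow]
  refine F.pow_mem ?_ _
  rcases i with ⟨l, j⟩ | j
  · rw [Gens.ev_inl]; exact hx l j
  · rw [Gens.ev_inr]; exact hN j j.2

end Filt

section GammaFil

variable {K : Type u} [CommRing K] {A : Type v} [CommRing A] [LambdaOps A] (ε : A →+* K)

theorem prod_mem_gammaFil (l : List (ℕ × A)) (hl : ∀ p ∈ l, ε p.2 = 0) {n : ℕ}
    (hn : n ≤ (l.map Prod.fst).sum) : (l.map fun p => gamma p.1 p.2).prod ∈ gammaFil ε n :=
  Ideal.subset_span ⟨l, hl, hn, rfl⟩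

theorem gamma_mem_gammaFil {x : A} (hx : ε x = 0) (j : ℕ) : gamma j x ∈ gammaFil ε j := by
  simpa using prod_mem_gammaFil ε [(j, x)] (by simpa using hx) (n := j) (by simp)

/-- The γ-filtration. -/
def gammaFilt : Filt A where
  W := gammaFil ε
  antitone h := Ideal.span_mono fun _ ⟨l, hl, hn, he⟩ => ⟨l, hl, h.trans hn, he⟩
  one_mem := by
    simpa using prod_mem_gammaFil ε [] (by simp) (n := 0) (by simp)
  mul_mem {m n a b} ha hb := by
    have h : gammaFil ε m * gammaFil ε n ≤ gammaFil ε (m + n) := by
      rw [gammaFil, gammaFil, Ideal.span_mul_span']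
      refine Ideal.span_le.2 ?_
      rintro _ ⟨x, ⟨l, hl, hm, rfl⟩, y, ⟨l', hl', hn, rfl⟩, rfl⟩
      simp only
      rw [← List.prod_append, ← List.map_append]
      refine prod_mem_gammaFil ε _ ?_ ?_
      · intro p hp
        rcases List.mem_append.1 hp with hp | hp
        · exact hl p hp
        · exact hl' p hp
      · rw [List.map_append, List.sum_append]; omega
    exact h (Ideal.mul_mem_mul ha hb)

theorem mem_gammaFil_zero (a : A) : a ∈ gammaFil ε 0 := (gammaFilt ε).mem_zero a

theorem gammaFil_le_filt (F : Filt A) (h : ∀ z, ε z = 0 → ∀ j, gamma j z ∈ F.W j) (n : ℕ) :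
    gammaFil ε n ≤ F.W n := by
  refine Ideal.span_le.2 ?_
  rintro _ ⟨l, hl, hn, rfl⟩
  exact F.antitone hn (F.list_prod_mem l _ _ fun p hp => h p.2 (hl p hp) p.1)

end GammaFil

section Span

variable {K : Type u} [CommRing K] {A : Type v} [CommRing A] [LambdaOps A] [Algebra K A]

/-- The K-span of products of γ-operations of the shifts of elements of `S`. -/
def genSpan (ε : A → K) (S : Set A) (n : ℕ) : Submodule K A :=
  Submodule.span K {y : A | ∃ l : List (ℕ × A), (∀ p ∈ l, p.2 ∈ S) ∧ n ≤ (l.map Prod.fst).sum ∧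
    y = (l.map fun p => gamma p.1 (p.2 - algebraMap K A (ε p.2))).prod}

variable {S : Set A} {f : A → K}

theorem genSpan_antitone {m n : ℕ} (h : m ≤ n) : genSpan f S n ≤ genSpan f S m :=
  Submodule.span_mono fun _ ⟨l, hl, hn, he⟩ => ⟨l, hl, h.trans hn, he⟩

theorem genSpan_mul {m n : ℕ} {a b : A} (ha : a ∈ genSpan f S m) (hb : b ∈ genSpan f S n) :
    a * b ∈ genSpan f S (m + n) := by
  have h : genSpan f S m * genSpan f S n ≤ genSpan f S (m + n) := by
    rw [genSpan, genSpan, Submodule.span_mul_span]
    refine Submodule.span_le.2 ?_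
    rintro _ ⟨x, ⟨l, hl, hm, rfl⟩, y, ⟨l', hl', hn, rfl⟩, rfl⟩
    simp only
    rw [← List.prod_append, ← List.map_append]
    refine Submodule.subset_span ⟨_, ?_, ?_, rfl⟩
    · intro p hp
      rcases List.mem_append.1 hp with hp | hp
      · exact hl p hp
      · exact hl' p hp
    · rw [List.map_append, List.sum_append]; omega
  exact h (Submodule.mul_mem_mul ha hb)

variable (ε : A →ₐ[K] K) (hS : AddSubgroup.closure S = ⊤)

theorem one_mem_genSpan : (1 : A) ∈ genSpan ε S 0 :=
  Submodule.subset_span ⟨[], by simp, by simp, by simp⟩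

include hS

theorem gamma_sub_mem_genSpan (x : A) :
    ∀ j, gamma j (x - algebraMap K A (ε x)) ∈ genSpan ε S j := by
  have hx : x ∈ AddSubgroup.closure S := by rw [hS]; trivial
  induction hx using AddSubgroup.closure_induction with
  | mem s hs => exact fun j => Submodule.subset_span ⟨[(j, s)], by simpa using hs, by simp, by simp⟩
  | zero =>
    intro j
    rw [map_zero, map_zero, sub_zero, ← coeff_gammaSeries, gammaSeries_zero, PowerSeries.coeff_one]
    split_ifs with h
    · subst h; exact one_mem_genSpan ε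
    · exact zero_mem _
  | add a b _ _ ha hb =>
    intro j
    rw [map_add, map_add, add_sub_add_comm, gamma_add]
    refine sum_mem fun i hi => ?_
    simp only [mem_range] at hi
    have := genSpan_mul (ha i) (hb (j - i))
    rwa [show i + (j - i) = j by omega] at this
  | neg a _ ha =>
    intro j
    induction j using Nat.strong_induction_on with
    | _ j ih =>
      rcases j with - | j
      · rw [gamma_zero]; exact one_mem_genSpan ε
      have h := gamma_add (j + 1) (a - algebraMap K A (ε a)) (-a - algebraMap K A (ε (-a)))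
      rw [map_neg, map_neg, show (a - algebraMap K A (ε a)) + (-a - -algebraMap K A (ε a)) = 0 by ring,
        ← coeff_gammaSeries, gammaSeries_zero, PowerSeries.coeff_one, if_neg (Nat.succ_ne_zero j),
        sum_range_succ', gamma_zero, one_mul, Nat.sub_zero] at h
      simp only [Nat.add_sub_add_right] at h
      rw [map_neg, map_neg, eq_neg_of_add_eq_zero_right h.symm]
      refine neg_mem (sum_mem fun i hi => ?_)
      simp only [mem_range] at hi
      have hj := ih (j - i) (by omega)
      rw [map_neg, map_neg] at hj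
      have := genSpan_mul (ha (i + 1)) hj
      rwa [show i + 1 + (j - i) = j + 1 by omega] at this

theorem mul_mem_genSpan (a : A) {n : ℕ} {b : A} (hb : b ∈ genSpan ε S n) :
    a * b ∈ genSpan ε S n := by
  rw [← add_sub_cancel (algebraMap K A (ε a)) a, add_mul]
  refine add_mem (by rw [← Algebra.smul_def]; exact Submodule.smul_mem _ _ hb) ?_
  refine genSpan_antitone (Nat.le_add_left n 1) ?_
  have h := gamma_sub_mem_genSpan ε hS a 1
  rw [gamma_one] at h
  exact genSpan_mul h hb

theorem gammaFil_restrictScalars_eq (n : ℕ) :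
    (gammaFil (ε : A →+* K) n).restrictScalars K = genSpan ε S n := by
  apply le_antisymm
  · let I : Ideal A :=
      { carrier := genSpan ε S n
        add_mem' := fun ha hb => add_mem ha hb
        zero_mem' := zero_mem _
        smul_mem' := fun a b hb => mul_mem_genSpan ε hS a hb }
    have h : gammaFil (ε : A →+* K) n ≤ I := by
      refine Ideal.span_le.2 ?_
      rintro _ ⟨l, hl, hn, rfl⟩
      refine genSpan_antitone hn ?_
      clear hn
      induction l with
      | nil => simpa using one_mem_genSpan ε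
      | cons p l ih =>
        simp only [List.map_cons, List.prod_cons, List.sum_cons]
        refine genSpan_mul ?_ (ih fun q hq => hl q (List.mem_cons_of_mem _ hq))
        have h0 : ε p.2 = 0 := hl p List.mem_cons_self
        simpa [h0] using gamma_sub_mem_genSpan ε hS p.2 p.1
    exact fun x hx => h hx
  · refine Submodule.span_le.2 ?_
    rintro _ ⟨l, _, hn, rfl⟩
    change _ ∈ gammaFil (ε : A →+* K) n
    have h := prod_mem_gammaFil (ε : A →+* K)
      (l.map fun p => (p.1, p.2 - algebraMap K A (ε p.2))) (fun p hp => by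
        obtain ⟨q, _, rfl⟩ := List.mem_map.1 hp
        simp) (n := n) (by rw [List.map_map]; exact hn)
    rwa [List.map_map] at h

end Span

end Groth.L08.Lambda
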