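import Groth.Agent.L08.Lambda.Nice
import Mathlib.RingTheory.Adjoin.Basic

/-!
The γ-filtration of an algebra generated by γ-operations.
-/

universe u v w

namespace Groth.L08.Lambda

open Finset LambdaRing

theorem map_gamma {A : Type v} {B : Type w} [CommRing A] [CommRing B] [LambdaOps A] [LambdaOps B]
    (φ : A →+* B) (h : ∀ (n : ℕ) (a : A), φ (LambdaOps.lam n a) = LambdaOps.lam n (φ a)) (n : ℕ)
    (a : A) : φ (gamma n a) = gamma n (φ a) := by
  rcases n with - | n
  · simp [gamma_zero]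
  · rw [gamma_succ_eq, gamma_succ_eq, map_add, map_sum, h]
    simp only [map_mul, map_natCast, h]

theorem map_gammaFil_le {A : Type v} {B : Type w} {K : Type u} [CommRing A] [CommRing B]
    [CommRing K] [LambdaOps A] [LambdaOps B] (φ : A →+* B)
    (h : ∀ (n : ℕ) (a : A), φ (LambdaOps.lam n a) = LambdaOps.lam n (φ a))
    (εA : A →+* K) (εB : B →+* K) (hε : ∀ a, εB (φ a) = εA a) {n : ℕ} {a : A}
    (ha : a ∈ gammaFil εA n) : φ a ∈ gammaFil εB n := by
  have hle : gammaFil εA n ≤ (gammaFil εB n).comap φ := by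
    refine Ideal.span_le.2 ?_
    rintro _ ⟨l, hl, hn, rfl⟩
    rw [SetLike.mem_coe, Ideal.mem_comap, map_list_prod, List.map_map]
    have := prod_mem_gammaFil εB (l.map fun p => (p.1, φ p.2)) (fun p hp => by
      obtain ⟨q, hq, rfl⟩ := List.mem_map.1 hp
      simpa [hε] using hl q hq) (n := n) (by rw [List.map_map]; exact hn)
    rw [List.map_map] at this
    have e : (φ ∘ fun p : ℕ × A => gamma p.1 p.2) =
        (fun p : ℕ × B => gamma p.1 p.2) ∘ fun p : ℕ × A => (p.1, φ p.2) :=
      funext fun p => map_gamma φ h p.1 p.2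
    rwa [e]
  exact hle ha

variable {K : Type u} [CommRing K] [LambdaOps K] [BinomialRing K] {A : Type v} [CommRing A]
  [LambdaOps A] [Algebra K A]

theorem gammaFil_le_of_adjoin (hA : IsSpecial A) (hKb : IsBinomial K) (ε : A →ₐ[K] K)
    (hε : IsAugLambdaAlg K A ε) (Y : Set A) (hY : ∀ y ∈ Y, ε y = 0)
    (hgen : Algebra.adjoin K {z : A | ∃ y ∈ Y, ∃ j : ℕ, z = gamma (j + 1) y} = ⊤)
    (F : Filt A) (hF : ∀ y ∈ Y, ∀ j, gamma (j + 1) y ∈ F.W (j + 1)) (n : ℕ) :
    gammaFil (ε : A →+* K) n ≤ F.W n := by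
  refine gammaFil_le_filt _ F (fun z hz j => ?_) n
  rcases j with - | j
  · exact F.mem_zero _
  let P : Set A := {s | ∃ l : List (ℕ × A), (∀ p ∈ l, p.2 ∈ Y) ∧ 1 ≤ (l.map Prod.fst).sum ∧
    s = (l.map fun p => gamma p.1 p.2).prod}
  have hεγ : ∀ y ∈ Y, ∀ j, ε (gamma (j + 1) y) = 0 := fun y hy j => by
    have h := map_gamma (ε : A →+* K) (fun n a => hε.map_lam n a) (j + 1) y
    exact h.trans (by
      rw [show (ε : A →+* K) y = 0 from hY y hy, gamma_zero_arg (j + 1) (by omega)])
  have hmono : ∀ s ∈ Submonoid.closure {z : A | ∃ y ∈ Y, ∃ j : ℕ, z = gamma (j + 1) y},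
      s = 1 ∨ (s ∈ P ∧ ε s = 0) := by
    intro s hs
    induction hs using Submonoid.closure_induction with
    | mem s hs =>
      obtain ⟨y, hy, j, rfl⟩ := hs
      exact Or.inr ⟨⟨[(j + 1, y)], by simpa using hy, by simp, by simp⟩, hεγ y hy j⟩
    | one => exact Or.inl rfl
    | mul a b _ _ ha hb =>
      rcases ha with rfl | ⟨⟨l, hl, hs, rfl⟩, ha⟩
      · rw [one_mul]; exact hb
      rcases hb with rfl | ⟨⟨l', hl', hs', rfl⟩, -⟩
      · rw [mul_one]; exact Or.inr ⟨⟨l, hl, hs, rfl⟩, ha⟩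
      refine Or.inr ⟨⟨l ++ l', ?_, ?_, by rw [List.map_append, List.prod_append]⟩, by
        rw [map_mul, ha, zero_mul]⟩
      · intro p hp
        rcases List.mem_append.1 hp with hp | hp
        · exact hl p hp
        · exact hl' p hp
      · rw [List.map_append, List.sum_append]; omega
  have hspan : ∀ x : A, x - algebraMap K A (ε x) ∈ Submodule.span K P := by
    intro x
    have hx : x ∈ Submodule.span K
        (Submonoid.closure {z : A | ∃ y ∈ Y, ∃ j : ℕ, z = gamma (j + 1) y} : Set A) := by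
      rw [← Algebra.adjoin_eq_span (R := K), hgen, Subalgebra.mem_toSubmodule]
      exact Algebra.mem_top (R := K)
    induction hx using Submodule.span_induction with
    | mem s hs =>
      rcases hmono s hs with rfl | ⟨hP, h0⟩
      · simp
      · rw [h0, map_zero, sub_zero]; exact Submodule.subset_span hP
    | zero => simp
    | add a b _ _ ha hb => rw [map_add, map_add, add_sub_add_comm]; exact add_mem ha hb
    | smul c a _ ha =>
      rw [map_smul, smul_eq_mul, map_mul, ← Algebra.smul_def, ← smul_sub]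
      exact Submodule.smul_mem _ _ ha
  have hz' : z ∈ Submodule.span K P := by
    have h := hspan z
    rwa [show ε z = 0 from hz, map_zero, sub_zero] at h
  have h0 : ∀ j, 0 < j → gamma j (0 : A) = 0 := fun j hj => gamma_zero_arg j hj
  have h1 : gamma 0 (0 : A) ∈ F.W 0 := F.mem_zero _
  obtain ⟨H, hH, -⟩ := Nice.of_span (F := F) (g := gamma 0 (0 : A)) (d := 0) (i := 1) hA
    hε.isLambdaAlg hKb h1 le_rfl (fun s hs => by
      obtain ⟨l, hl, hsum, rfl⟩ := hs
      exact nice_prod hA h0 (fun k hk => absurd hk (Nat.not_lt_zero k)) le_rfl l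
        (fun p hp k => hF p.2 (hl p hp) k) hsum) hz'
  have h := hH (j + 1) (by omega)
  rw [gamma_zero, mul_one, one_mul] at h
  rw [h.1]
  exact F.antitone (by omega) h.2

end Groth.L08.Lambda
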