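import Groth.Agent.L08.Lambda.Gamma
import Groth.Prelude.Def_LambdaSp

/-!
γ-operations of `N - d` for an element of rank `d`.
-/

universe u

namespace Groth.L08.Lambda

open Finset LambdaRing Groth.L22.Lambda
open PowerSeries (coeff C X)

variable {A : Type u} [CommRing A] [LambdaOps A]

theorem gammaSeries_rank (h1 : ∀ k : ℕ, 2 ≤ k → LambdaOps.lam k (1 : A) = 0) {d : ℕ} {N : A}
    (hN : ∀ k, d < k → LambdaOps.lam k N = 0) :
    gammaSeries (N - (d : A)) =
      ∑ j ∈ range (d + 1), C (LambdaOps.lam j N) * (X ^ j * (1 - X) ^ (d - j)) := by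
  have hp : lamSeries N =
      ((∑ j ∈ range (d + 1), Polynomial.C (LambdaOps.lam j N) * Polynomial.X ^ j : Polynomial A) :
        PowerSeries A) := by
    ext i
    rw [coeff_lamSeries, Polynomial.coeff_coe, Polynomial.finsetSum_coeff]
    simp only [Polynomial.coeff_C_mul_X_pow]
    rw [sum_ite_eq]
    split_ifs with hi
    · rfl
    · exact hN i (by simp at hi; omega)
  rw [sub_eq_add_neg, gammaSeries_add, gammaSeries_neg_natCast h1, gammaSeries, hp,
    PowerSeries.subst_coe hasSubst_gS, map_sum, sum_mul]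
  refine sum_congr rfl fun j hj => ?_
  simp only [mem_range] at hj
  rw [map_mul, map_pow, Polynomial.aeval_C, Polynomial.aeval_X, mul_assoc]
  congr 1
  rw [show (1 - X : PowerSeries A) ^ d = (1 - X) ^ j * (1 - X) ^ (d - j) by
    rw [← pow_add]; congr 1; omega, ← mul_assoc, ← mul_pow, gS_mul_one_sub]

theorem coeff_gamma_rank (h1 : ∀ k : ℕ, 2 ≤ k → LambdaOps.lam k (1 : A) = 0) {d : ℕ} {N : A}
    (hN : ∀ k, d < k → LambdaOps.lam k N = 0) (n : ℕ) :
    gamma n (N - (d : A)) = ∑ j ∈ range (d + 1), LambdaOps.lam j N *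
      (if j ≤ n then (-1) ^ (n - j) * ((d - j).choose (n - j) : A) else 0) := by
  rw [← coeff_gammaSeries, gammaSeries_rank h1 hN, map_sum]
  refine sum_congr rfl fun j _ => ?_
  rw [PowerSeries.coeff_C_mul, PowerSeries.coeff_X_pow_mul']
  split_ifs with h
  · rw [coeff_one_sub_X_pow]
  · rfl

theorem gamma_rank_eq_zero (h1 : ∀ k : ℕ, 2 ≤ k → LambdaOps.lam k (1 : A) = 0) {d : ℕ} {N : A}
    (hN : ∀ k, d < k → LambdaOps.lam k N = 0) {n : ℕ} (hn : d < n) :
    gamma n (N - (d : A)) = 0 := by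
  rw [coeff_gamma_rank h1 hN]
  refine sum_eq_zero fun j hj => ?_
  simp only [mem_range] at hj
  rw [if_pos (by omega), Nat.choose_eq_zero_of_lt (by omega)]
  simp

/-- The alternating sum of the λ-operations is the top γ-operation of `N - d`, up to sign. -/
theorem gamma_rank_top (h1 : ∀ k : ℕ, 2 ≤ k → LambdaOps.lam k (1 : A) = 0) {d : ℕ} {N : A}
    (hN : ∀ k, d < k → LambdaOps.lam k N = 0) :
    gamma d (N - (d : A)) = (-1) ^ d * ∑ j ∈ range (d + 1), (-1 : A) ^ j * LambdaOps.lam j N := by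
  rw [coeff_gamma_rank h1 hN, mul_sum]
  refine sum_congr rfl fun j hj => ?_
  simp only [mem_range] at hj
  rw [if_pos (by omega), Nat.choose_self, Nat.cast_one, mul_one,
    show (-1 : A) ^ d * ((-1) ^ j * LambdaOps.lam j N) = ((-1) ^ d * (-1) ^ j) * LambdaOps.lam j N by
      ring,
    show (-1 : A) ^ d * (-1) ^ j = (-1) ^ (d - j) by
      rw [← pow_add, show d + j = (d - j) + 2 * j by omega, pow_add, pow_mul, neg_one_sq, one_pow,
        mul_one]]
  ring

end Groth.L08.Lambda
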