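import Groth.Agent.L08.Lambda.SplitSpecial
import Groth.Agent.L08.Lambda.Rank
import Groth.Prelude.Def_W4bkmilneecrracsp2Inv

/-!
λ-rings with involution.
-/

universe u

namespace Groth.L08.Lambda

open Finset LambdaRing Groth.L22.Lambda

theorem esymm_eq_esymm_map_mul_prod {R : Type u} [CommRing R] (v : R → R) (s : Multiset R)
    (hs : ∀ a ∈ s, v a * a = 1) :
    ∀ i j, i + j = Multiset.card s → s.esymm i = (s.map v).esymm j * s.prod := by
  induction s using Multiset.induction with
  | empty =>
    intro i j h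
    simp only [Multiset.card_zero, Nat.add_eq_zero_iff] at h
    simp [h.1, h.2, Multiset.esymm]
  | cons a s ih =>
    intro i j h
    rw [Multiset.card_cons] at h
    have ih' := ih fun b hb => hs b (Multiset.mem_cons_of_mem hb)
    have ha := hs a (Multiset.mem_cons_self a s)
    have h0 : ∀ t : Multiset R, t.esymm 0 = 1 := fun t => by simp [Multiset.esymm]
    have htop : ∀ (t : Multiset R) (m : ℕ), Multiset.card t < m → t.esymm m = 0 := fun t m hm => by
      simp [Multiset.esymm, Multiset.powersetCard_eq_empty _ hm]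
    rw [Multiset.map_cons, Multiset.prod_cons]
    rcases i with - | i <;> rcases j with - | j
    · omega
    · rw [h0, esymm_cons_succ, htop (s.map v) (j + 1) (by rw [Multiset.card_map]; omega), zero_add,
        show v a * (s.map v).esymm j * (a * s.prod) = (v a * a) * ((s.map v).esymm j * s.prod) by ring,
        ha, one_mul, ← ih' 0 j (by omega), h0]
    · rw [h0, one_mul, esymm_cons_succ, htop s (i + 1) (by omega), zero_add, ih' i 0 (by omega), h0,
        one_mul]
    · rw [esymm_cons_succ, esymm_cons_succ, ih' (i + 1) j (by omega), ih' i (j + 1) (by omega)]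
      linear_combination -((s.map v).esymm j * s.prod) * ha

variable {K : Type u} [CommRing K] [LambdaOps K] {P : PosStructure K} {inv : K → K}

/-- A splitting compatible with the involution. -/
theorem exists_inv_splitting (hS : HasInvSplitting P inv) {e : K} (he : e ∈ P.pos) :
    ∃ (L : Type u) (_ : CommRing L) (_ : LambdaOps L) (Q : PosStructure L) (f : K →+* L)
      (inv' : L → L) (s : Multiset L), IsExtension P Q f ∧ (∀ a ∈ s, inv' a * a = 1) ∧
        Multiset.card s = (P.aug e).toNat ∧ (∀ i, f (LambdaOps.lam i e) = s.esymm i) ∧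
        ∀ i, f (LambdaOps.lam i (inv e)) = (s.map inv').esymm i := by
  obtain ⟨L, inv', f, hf, hV, hcomm, s, hs, hsum⟩ := hS e he
  refine ⟨L.carrier, L.commRing, L.lambdaOps, L.posStr, f, inv', s, hf,
    fun a ha => hV.inv_mul_self a (hs a ha), ?_, fun i => ?_, fun i => ?_⟩
  · have h := aug_sum_lines L.posStr hs
    rw [hsum, hf.aug_comp] at h
    rw [h, Int.toNat_natCast]
  · rw [hf.isLambdaHom i e, ← hsum, lam_sum_lines L.posStr hs]
  · have e2 : f (inv e) = (s.map inv').sum := by
      rw [hcomm, ← hsum]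
      exact map_multiset_sum (AddMonoidHom.mk' inv' hV.map_add) s
    rw [hf.isLambdaHom, e2, lam_sum_lines L.posStr fun a ha => ?_]
    obtain ⟨b, hb, rfl⟩ := Multiset.mem_map.1 ha
    exact hV.inv_line b (hs b hb)

theorem lam_eq_lam_inv_mul (hS : HasInvSplitting P inv) {e : K} (he : e ∈ P.pos) {i : ℕ}
    (hi : i ≤ (P.aug e).toNat) :
    LambdaOps.lam i e =
      LambdaOps.lam ((P.aug e).toNat - i) (inv e) * LambdaOps.lam (P.aug e).toNat e := by
  obtain ⟨L, _, _, Q, f, inv', s, hf, hs, hcard, hl, hli⟩ := exists_inv_splitting hS he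
  apply hf.injective
  rw [map_mul, hl, hl, hli]
  have htop : s.esymm (P.aug e).toNat = s.prod := by
    rw [esymm_eq_esymm_map_mul_prod inv' s hs _ 0 (by omega)]
    simp [Multiset.esymm]
  rw [htop]
  exact esymm_eq_esymm_map_mul_prod inv' s hs _ _ (by omega)

theorem lam_inv_eq_zero (hS : HasInvSplitting P inv) {e : K} (he : e ∈ P.pos) {i : ℕ}
    (hi : (P.aug e).toNat < i) : LambdaOps.lam i (inv e) = 0 := by
  obtain ⟨L, _, _, Q, f, inv', s, hf, hs, hcard, hl, hli⟩ := exists_inv_splitting hS he
  apply hf.injective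
  rw [hli, map_zero]
  simp [Multiset.esymm, Multiset.powersetCard_eq_empty _
    (show Multiset.card (s.map inv') < i by rw [Multiset.card_map]; omega)]

theorem gamma_aug_sub (hS : HasInvSplitting P inv) {e : K} (he : e ∈ P.pos) :
    gamma (P.aug e).toNat (e - ((P.aug e).toNat : K)) =
      (∑ i ∈ range ((P.aug e).toNat + 1), (-1 : K) ^ i * LambdaOps.lam i (inv e)) *
        LambdaOps.lam (P.aug e).toNat e := by
  have hrank : ∀ k, (P.aug e).toNat < k → LambdaOps.lam k e = 0 := fun k hk =>
    P.lam_eq_zero e he k (by have := P.aug_pos e he; omega)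
  rw [gamma_rank_top (fun k hk => lam_eq_zero_of_isLine P (isLine_one P) hk) hrank, sum_mul,
    mul_sum, ← sum_range_reflect]
  refine sum_congr rfl fun i hi => ?_
  simp only [mem_range] at hi
  rw [lam_eq_lam_inv_mul hS he (i := (P.aug e).toNat + 1 - 1 - i) (by omega),
    show (P.aug e).toNat - ((P.aug e).toNat + 1 - 1 - i) = i by omega, ← mul_assoc ((-1 : K) ^ _),
    ← pow_add, show (P.aug e).toNat + ((P.aug e).toNat + 1 - 1 - i) =
      i + 2 * ((P.aug e).toNat - i) by omega, pow_add, pow_mul, neg_one_sq, one_pow, mul_one]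
  ring

theorem gamma_inv_sub_lamAlt_mem (hV : IsInvolution P inv) (hS : HasInvSplitting P inv) {q : K}
    (hq : q ∈ P.pos) :
    gamma (P.aug q).toNat (inv q - ((P.aug q).toNat : K)) -
        (∑ i ∈ range ((P.aug q).toNat + 1), (-1 : K) ^ i * LambdaOps.lam i q) ∈
      gammaFiltration P ((P.aug q).toNat + 1) := by
  set d := (P.aug q).toNat with hd
  set g := gamma d (inv q - (d : K)) with hg
  set D := LambdaOps.lam d q with hD
  set L := ∑ i ∈ range (d + 1), (-1 : K) ^ i * LambdaOps.lam i q with hL
  have h1 : ∀ k : ℕ, 2 ≤ k → LambdaOps.lam k (1 : K) = 0 :=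
    fun k hk => lam_eq_zero_of_isLine P (isLine_one P) hk
  have hsign : ((-1 : K) ^ d) * (-1) ^ d = 1 := by rw [← mul_pow, neg_one_mul, neg_neg, one_pow]
  have ha : gamma d (q - (d : K)) = (-1) ^ d * L := gamma_rank_top h1 fun k hk =>
    P.lam_eq_zero q hq k (by have := P.aug_pos q hq; omega)
  have hb : g = (-1) ^ d * ∑ i ∈ range (d + 1), (-1 : K) ^ i * LambdaOps.lam i (inv q) :=
    gamma_rank_top h1 fun k hk => lam_inv_eq_zero hS hq hk
  have hc : gamma d (q - (d : K)) =
      (∑ i ∈ range (d + 1), (-1 : K) ^ i * LambdaOps.lam i (inv q)) * D := gamma_aug_sub hS hq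
  have hgL : g * D = L := by
    rw [hb, mul_assoc, ← hc, ha, ← mul_assoc, hsign, one_mul]
  rw [show g - L = g * (1 - D) by rw [← hgL]; ring]
  have haug : P.aug (inv q - (d : K)) = 0 := by
    rw [map_sub, map_natCast, hV.aug_inv, hd, Int.toNat_of_nonneg (P.aug_pos q hq).le, sub_self]
  have hD1 : P.aug D = 1 := by
    obtain ⟨L, _, _, Q, f, inv', s, hf, hs, hcard, hl, hli⟩ := exists_inv_splitting hS hq
    have := hS q hq
    obtain ⟨L2, inv2, f2, hf2, hV2, hcomm, t, ht, htsum⟩ := this
    rw [hD, ← hf2.aug_comp, hf2.isLambdaHom, ← htsum, lam_sum_lines L2.posStr ht,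
      esymm_aug_lines L2.posStr ht]
    have hc2 : Multiset.card t = d := by
      have h := aug_sum_lines L2.posStr ht
      rw [htsum, hf2.aug_comp] at h
      rw [hd, h, Int.toNat_natCast]
    rw [hc2, Nat.choose_self, Nat.cast_one]
  have hm : g ∈ gammaFiltration P d := by
    have := prod_mem_gammaFiltration P [(d, inv q - (d : K))] (by simpa using haug) d (by simp)
    simpa [← hg] using this
  refine mul_mem_gammaFiltration P hm ?_
  have := prod_mem_gammaFiltration P [(1, 1 - D)] (by simp [hD1]) 1 (by simp)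
  simpa [gamma_one] using this

end Groth.L08.Lambda
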