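import Groth.Agent.L08.Lambda.Diff
import Groth.Agent.L08.Lambda.Grade
import Mathlib.LinearAlgebra.Basis.Defs
import Mathlib.Algebra.Polynomial.Basis
import Mathlib.RingTheory.Polynomial.Pochhammer

/-!
A free special λ-ring over ℚ with line elements adjoined, and its weight filtration.
-/

universe u v

namespace Groth.L08.Lambda

open Finset LambdaRing fwdDiff

/-- The pre-λ-structure attached to a family of additive Adams operations over ℚ. -/
@[reducible] noncomputable def lamOfAdams {K : Type u} [CommRing K] [Algebra ℚ K] (ψ : ℕ → K →+ K)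
    (hψ : ψ 1 = AddMonoidHom.id K) : LambdaOps K where
  lam i x := ofGh (fun j => ψ j x) i
  lam_zero x := (newton_ofGh fun j => ψ j x).1
  lam_one x := by
    simpa [(newton_ofGh fun j => ψ j x).1, hψ] using (newton_ofGh fun j => ψ j x).2 0
  lam_add k x y := by
    have h := (newton_ofGh fun j => ψ j x).mul (newton_ofGh fun j => ψ j y)
      (d := fun n => ∑ i ∈ range (n + 1), ofGh (fun j => ψ j x) i * ofGh (fun j => ψ j y) (n - i))
      (by
        ext n
        rw [PowerSeries.coeff_mk, PowerSeries.coeff_mul,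
          Finset.Nat.sum_antidiagonal_eq_sum_range_succ_mk]
        simp)
    rw [show (fun j => ψ j (x + y)) = fun j => ψ j x + ψ j y from funext fun j => map_add (ψ j) x y]
    exact (h.eq_ofGh k).symm

/-- The model: free ghost variables and finitely many lines. -/
abbrev Mdl (ι κ : Type) : Type := MvPolynomial ((ι × ℕ) ⊕ κ) ℚ

namespace Mdl

variable {ι κ : Type}

/-- Weights of the variables of the model. -/
def wt : (ι × ℕ) ⊕ κ → ℕ := Sum.elim (fun p => p.2 + 1) (fun _ => 1)

/-- The variable of weight `D` of the `l`-th generator. -/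
noncomputable def pv (l : ι) (D : ℕ) : Mdl ι κ :=
  if D = 0 then 0 else MvPolynomial.X (Sum.inl (l, D - 1))

/-- A linear map sending `T^D` to the variable of weight `D`. -/
noncomputable def Lam (l : ι) : Polynomial ℚ →ₗ[ℚ] Mdl ι κ :=
  (Polynomial.basisMonomials ℚ).constr ℚ (pv l)

theorem Lam_monomial (l : ι) (D : ℕ) (c : ℚ) :
    Lam (κ := κ) l (Polynomial.monomial D c) = MvPolynomial.C c * pv l D := by
  rw [← mul_one c, ← smul_eq_mul, ← Polynomial.smul_monomial, map_smul, MvPolynomial.smul_eq_C_mul, smul_eq_mul, mul_one]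
  congr 1
  rw [Lam, ← (Polynomial.coe_basisMonomials (R := ℚ) ▸ rfl :
    (Polynomial.basisMonomials ℚ) D = Polynomial.monomial D (1 : ℚ)), Module.Basis.constr_basis]

theorem Lam_X_pow (l : ι) (D : ℕ) : Lam (κ := κ) l (Polynomial.X ^ D) = pv l D := by
  rw [Polynomial.X_pow_eq_monomial, Lam_monomial, map_one, one_mul]

/-- The polynomial (1+T)^k - 1. -/
noncomputable def q (k : ℕ) : Polynomial ℚ := (1 + Polynomial.X) ^ k - 1

theorem q_comp (k k' : ℕ) : (q k').comp (q k) = q (k * k') := by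
  simp [q, ← pow_mul]

theorem q_one : q 1 = Polynomial.X := by simp [q]

theorem q_eq (k : ℕ) : q k = Polynomial.X * ∑ i ∈ range k, (1 + Polynomial.X : Polynomial ℚ) ^ i := by
  rw [q, ← geom_sum_mul, add_sub_cancel_left, mul_comm]

/-- The Adams operations of the model. -/
noncomputable def psi (k : ℕ) : Mdl ι κ →ₐ[ℚ] Mdl ι κ :=
  MvPolynomial.aeval (Sum.elim (fun p => Lam p.1 (q k ^ (p.2 + 1)))
    (fun a => (1 + MvPolynomial.X (Sum.inr a)) ^ k - 1))

theorem psi_pv (k : ℕ) (l : ι) (D : ℕ) : psi (κ := κ) k (pv l D) = Lam l (q k ^ D) := by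
  rcases D with - | D
  · rw [pow_zero, ← pow_zero Polynomial.X, Lam_X_pow]
    simp [pv]
  · simp [pv, psi]

theorem psi_Lam (k : ℕ) (l : ι) (f : Polynomial ℚ) :
    psi (κ := κ) k (Lam l f) = Lam l (f.comp (q k)) := by
  induction f using Polynomial.induction_on' with
  | add f g hf hg => rw [map_add, map_add, hf, hg, Polynomial.add_comp, map_add]
  | monomial n a =>
    rw [Lam_monomial, map_mul, psi_pv, Polynomial.monomial_comp, ← Polynomial.smul_eq_C_mul,
      map_smul, MvPolynomial.smul_eq_C_mul, psi, MvPolynomial.aeval_C]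
    rfl

theorem psi_psi (k k' : ℕ) (p : Mdl ι κ) : psi k (psi k' p) = psi (k * k') p := by
  refine AlgHom.congr_fun (?_ : (psi k).comp (psi k') = psi (ι := ι) (κ := κ) (k * k')) p
  refine MvPolynomial.algHom_ext fun i => ?_
  rw [AlgHom.comp_apply]
  rcases i with ⟨l, m⟩ | a
  · have h : ∀ k, psi (κ := κ) k (MvPolynomial.X (Sum.inl (l, m))) = Lam l (q k ^ (m + 1)) :=
      fun k => by simp [psi]
    rw [h, psi_Lam, Polynomial.pow_comp, q_comp, h]
  · simp [psi, ← pow_mul]

theorem psi_one (p : Mdl ι κ) : psi 1 p = p := by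
  refine AlgHom.congr_fun (?_ : psi (ι := ι) (κ := κ) 1 = AlgHom.id ℚ _) p
  refine MvPolynomial.algHom_ext fun i => ?_
  rcases i with ⟨l, m⟩ | a
  · simp [psi, q_one, Lam_X_pow, pv]
  · simp [psi]

noncomputable instance ops : LambdaOps (Mdl ι κ) :=
  lamOfAdams (fun k => ((psi k).toRingHom : Mdl ι κ →+* Mdl ι κ).toAddMonoidHom)
    (AddMonoidHom.ext psi_one)

theorem adamsOp_eq {k : ℕ} (hk : 1 ≤ k) (p : Mdl ι κ) : adamsOp k p = psi k p := by
  rw [adamsOp_eq_gh hk]
  exact gh_ofGh _ k hk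

theorem isSpecial : IsSpecial (Mdl ι κ) :=
  isSpecial_of_adams (fun k hk => by rw [adamsOp_eq hk, map_one])
    (fun k hk x y => by rw [adamsOp_eq hk, adamsOp_eq hk, adamsOp_eq hk, map_mul])
    (fun k k' hk hk' x => by
      rw [adamsOp_eq hk, adamsOp_eq hk', adamsOp_eq (Nat.mul_pos hk hk'), psi_psi])

theorem gh_gamma_pv (l : ι) {p : ℕ} (hp : 1 ≤ p) :
    gh (fun i => gamma i (pv (κ := κ) l 1)) p = pv l p := by
  refine gamma_ghost_of_adamsOp _ (pv l) (if_pos rfl) (fun k hk => ?_) hp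
  rw [adamsOp_eq hk, psi_pv, pow_one, q, add_comm 1 Polynomial.X, add_pow, map_sub, map_sum,
    ← pow_zero Polynomial.X, Lam_X_pow, pv, if_pos rfl, sub_zero]
  refine sum_congr rfl fun i _ => ?_
  simp only [pow_zero, one_pow, mul_one]
  rw [← nsmul_eq_mul', map_nsmul, Lam_X_pow, nsmul_eq_mul]

theorem gamma_pv (l : ι) (j : ℕ) :
    gamma j (pv (κ := κ) l 1) = ofGh (pv l) j := by
  rw [(newton_gh (c := fun i => gamma i (pv (κ := κ) l 1)) (gamma_zero _)).eq_ofGh j]
  exact ofGh_congr j (fun p hp _ => gh_gamma_pv l hp) j le_rfl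

variable [Fintype κ]

/-- The sum of the lines, shifted to augmentation zero. -/
noncomputable def N0 : Mdl ι κ := ∑ a, MvPolynomial.X (Sum.inr a)

theorem gamma_N0 (j : ℕ) : gamma j (N0 (ι := ι) (κ := κ)) =
    (univ.val.map fun a : κ => (MvPolynomial.X (Sum.inr a) : Mdl ι κ)).esymm j := by
  rw [(newton_gh (c := fun i => gamma i (N0 (ι := ι) (κ := κ))) (gamma_zero _)).eq_ofGh j,
    (newton_esymm (univ.val.map fun a : κ => (MvPolynomial.X (Sum.inr a) : Mdl ι κ))).eq_ofGh j]
  refine ofGh_congr j (fun p hp _ => ?_) j le_rfl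
  rw [gamma_ghost_of_adamsOp (N0 (ι := ι) (κ := κ))
    (fun i => if i = 0 then 0 else ∑ a : κ, (MvPolynomial.X (Sum.inr a) : Mdl ι κ) ^ i) (if_pos rfl)
    (fun k hk => ?_) hp, if_neg (by omega), Multiset.map_map]
  · rfl
  rw [adamsOp_eq hk, N0, map_sum, sum_range_succ', if_pos rfl, mul_zero, add_zero]
  simp only [Nat.succ_ne_zero, if_false, mul_sum]
  rw [sum_comm]
  refine sum_congr rfl fun a _ => ?_
  simp only [psi, MvPolynomial.aeval_X, Sum.elim_inr]
  rw [add_comm 1, add_pow, sum_range_succ']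
  simp [mul_comm]

end Mdl

end Groth.L08.Lambda
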