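import Groth.Agent.L08.Lambda.Model

/-!
Weight estimates for Adams and γ-operations in the model.
-/

universe u v

namespace Groth.L08.Lambda

open Finset LambdaRing fwdDiff

theorem degLe_choose_mul (i D : ℕ) : DegLe D (fun k => (((k * i).choose D : ℕ) : ℚ)) := by
  refine ⟨Polynomial.C ((D.factorial : ℚ)⁻¹) *
    (descPochhammer ℚ D).comp (Polynomial.C (i : ℚ) * Polynomial.X), ?_, fun k => ?_⟩
  · refine (Polynomial.natDegree_C_mul_le _ _).trans (Polynomial.natDegree_comp_le.trans ?_)
    rw [descPochhammer_natDegree]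
    calc D * (Polynomial.C (i : ℚ) * Polynomial.X).natDegree ≤ D * 1 :=
          Nat.mul_le_mul le_rfl ((Polynomial.natDegree_C_mul_le _ _).trans Polynomial.natDegree_X_le)
      _ = D := mul_one D
  · rw [Polynomial.eval_mul, Polynomial.eval_C, Polynomial.eval_comp, Polynomial.eval_mul,
      Polynomial.eval_C, Polynomial.eval_X, ← Nat.cast_mul, mul_comm i k,
      descPochhammer_eval_eq_descFactorial, Nat.descFactorial_eq_factorial_mul_choose,
      Nat.cast_mul, inv_mul_cancel_left₀ (Nat.cast_ne_zero.2 (Nat.factorial_ne_zero D))]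

theorem DegLe.map {B : Type u} {C : Type v} [CommRing B] [CommRing C] (φ : B →+* C) {D : ℕ}
    {f : ℕ → B} (h : DegLe D f) : DegLe D (fun k => φ (f k)) := by
  obtain ⟨F, hF, hF'⟩ := h
  exact ⟨F.map φ, Polynomial.natDegree_map_le.trans hF, fun k => by
    simp only [hF', Polynomial.eval_natCast_map]⟩

theorem DegLe.fwdDiff_eq_zero {B : Type u} [CommRing B] {D p : ℕ} {f : ℕ → B} (h : DegLe D f)
    (hp : D < p) : Δ_[1]^[p] f 0 = 0 := by
  obtain ⟨F, hF, hF'⟩ := h
  rw [fwdDiff_polynomial F f hF', Polynomial.fwdDiff_iter_eq_zero_of_degree_lt (hF.trans_lt hp),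
    Pi.zero_apply]

theorem fwdDiff_pow_mul {B : Type u} [CommRing B] (n : ℕ) (b : B) :
    Δ_[1]^[n] (fun k : ℕ => (k : B) ^ n * b) 0 = (n.factorial : B) * b := by
  have h : Δ_[1]^[n] (fun r : B => r ^ n) (0 : B) = (n.factorial : B) := by
    rw [fwdDiff_iter_eq_factorial]; simp
  rw [fwdDiff_iter_eq_sum_shift] at h ⊢
  simp only [zero_add, nsmul_one, Nat.cast_id, zsmul_eq_mul] at h ⊢
  simp only [← mul_assoc, ← sum_mul, h]

theorem map_fwdDiff {B : Type u} {C : Type v} [AddCommGroup B] [AddCommGroup C] (φ : B →+ C)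
    (f : ℕ → B) (p : ℕ) : φ (Δ_[1]^[p] f 0) = Δ_[1]^[p] (fun k => φ (f k)) 0 := by
  simp [fwdDiff_iter_eq_sum_shift, map_sum, map_zsmul]

namespace Mdl

variable {ι κ : Type}

/-- Component of weight `D` as an additive map. -/
noncomputable def compHom (D : ℕ) : Mdl ι κ →+ Mdl ι κ :=
  AddMonoidHom.mk' (comp wt D) (comp_add wt D)

theorem comp_C (D : ℕ) (c : ℚ) :
    comp (wt (ι := ι) (κ := κ)) D (MvPolynomial.C c) =
      if D = 0 then MvPolynomial.C c else 0 := by
  rw [comp, θ_C, PowerSeries.coeff_C]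

theorem comp_pv (D E : ℕ) (l : ι) :
    comp (wt (ι := ι) (κ := κ)) D (pv l E) = if E = D then pv l E else 0 := by
  rcases E with - | E
  · simp [pv, comp]
  · rw [comp, pv, if_neg (Nat.succ_ne_zero E), θ_X, PowerSeries.coeff_C_mul,
      PowerSeries.coeff_X_pow]
    simp only [wt, Sum.elim_inl, Nat.add_sub_cancel]
    by_cases h : E + 1 = D
    · rw [if_pos h.symm, if_pos h, mul_one]
    · rw [if_neg (Ne.symm h), if_neg h, mul_zero]

theorem comp_Lam (D : ℕ) (l : ι) (f : Polynomial ℚ) :
    comp (wt (ι := ι) (κ := κ)) D (Lam l f) = MvPolynomial.C (f.coeff D) * pv l D := by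
  induction f using Polynomial.induction_on' with
  | add f g hf hg => rw [map_add, comp_add, hf, hg, Polynomial.coeff_add, map_add, add_mul]
  | monomial n a =>
    rw [Lam_monomial, comp_C_mul, comp_pv, Polynomial.coeff_monomial]
    by_cases h : n = D
    · subst h; simp
    · simp [h]

theorem coeff_q_pow (k d D : ℕ) : (q k ^ d).coeff D =
    ∑ i ∈ range (d + 1), (-1 : ℚ) ^ (d - i) * (d.choose i : ℚ) * (((k * i).choose D : ℕ) : ℚ) := by
  rw [q, sub_eq_add_neg, add_pow, Polynomial.finsetSum_coeff]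
  refine sum_congr rfl fun i _ => ?_
  rw [← pow_mul, ← Polynomial.C_1, ← map_neg, ← map_pow, ← map_natCast Polynomial.C, mul_assoc,
    ← map_mul, Polynomial.coeff_mul_C, Polynomial.C_1, Polynomial.coeff_one_add_X_pow]
  ring

theorem degLe_comp_psi_X (i : (ι × ℕ) ⊕ κ) (D : ℕ) :
    DegLe D (fun k => comp wt D (psi k (MvPolynomial.X i))) := by
  rcases i with ⟨l, m⟩ | a
  · have h : DegLe D (fun k => (q k ^ (m + 1)).coeff D) := by
      refine DegLe.congr (DegLe.sum (s := range (m + 1 + 1)) (D := D)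
        (f := fun i k => (-1 : ℚ) ^ (m + 1 - i) * ((m + 1).choose i : ℚ) *
          (((k * i).choose D : ℕ) : ℚ)) fun i _ => ?_) fun k => (coeff_q_pow k (m + 1) D).symm
      simpa using (DegLe.const 0 ((-1 : ℚ) ^ (m + 1 - i) * ((m + 1).choose i : ℚ))).mul
        (degLe_choose_mul i D)
    refine DegLe.congr (f := fun k => MvPolynomial.C ((q k ^ (m + 1)).coeff D) * pv l D) ?_
      fun k => ?_
    · simpa using (h.map MvPolynomial.C).mul (DegLe.const 0 (pv (κ := κ) l D))
    · simp [psi, comp_Lam]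
  · have h : DegLe D (fun k => ((if D = 0 then 0 else k.choose D : ℕ) : ℚ)) := by
      split_ifs
      · simpa using DegLe.const D (0 : ℚ)
      · simpa using degLe_choose_mul 1 D
    refine DegLe.congr (f := fun k => MvPolynomial.C ((if D = 0 then 0 else k.choose D : ℕ) : ℚ) *
      (MvPolynomial.X (Sum.inr a) : Mdl ι κ) ^ D) ?_ fun k => ?_
    · simpa using (h.map MvPolynomial.C).mul
        (DegLe.const 0 ((MvPolynomial.X (Sum.inr a) : Mdl ι κ) ^ D))
    · simp only [psi, MvPolynomial.aeval_X, Sum.elim_inr]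
      rw [add_comm 1, add_pow]
      simp only [comp, map_sub, map_sum, map_one, map_mul, map_pow, one_pow, mul_one, map_natCast,
        θ_X, wt, Sum.elim_inr, pow_one, mul_pow, PowerSeries.coeff_one]
      have hterm : ∀ i ∈ range (k + 1), PowerSeries.coeff D
          (PowerSeries.C (MvPolynomial.X (Sum.inr a) : Mdl ι κ) ^ i * PowerSeries.X ^ i *
            (k.choose i : PowerSeries (Mdl ι κ))) =
          if i = D then (MvPolynomial.X (Sum.inr a) : Mdl ι κ) ^ i * (k.choose i : Mdl ι κ)
          else 0 := by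
        intro i _
        rw [← map_natCast PowerSeries.C, ← map_pow, mul_right_comm, ← map_mul,
          PowerSeries.coeff_C_mul, PowerSeries.coeff_X_pow]
        by_cases h : i = D
        · rw [if_pos h.symm, if_pos h, mul_one]
        · rw [if_neg (Ne.symm h), if_neg h, mul_zero]
      rw [sum_congr rfl hterm, sum_ite_eq']
      by_cases hD : D = 0
      · subst hD; simp
      · simp only [if_neg hD, sub_zero, mem_range]
        split_ifs with hk
        · rw [mul_comm]
        · rw [Nat.choose_eq_zero_of_lt (by omega)]; simp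

theorem degLe_comp_psi (p : Mdl ι κ) : ∀ D, DegLe D (fun k => comp wt D (psi k p)) := by
  induction p using MvPolynomial.induction_on with
  | C c =>
    intro D
    refine (DegLe.const D (comp (wt (ι := ι) (κ := κ)) D (MvPolynomial.C c))).congr fun k => ?_
    simp [psi]
  | add p r hp hr =>
    intro D
    exact ((hp D).add (hr D)).congr fun k => by rw [map_add, comp_add]
  | mul_X p i hp =>
    intro D
    refine DegLe.congr (DegLe.sum (s := antidiagonal D)
      (f := fun x k => comp wt x.1 (psi k p) * comp wt x.2 (psi k (MvPolynomial.X i))) fun x hx => ?_)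
      fun k => by rw [map_mul, comp_mul]
    exact ((hp x.1).mul (degLe_comp_psi_X i x.2)).mono (mem_antidiagonal.1 hx).le

theorem lead_X (k : ℕ) (i : (ι × ℕ) ⊕ κ) :
    HighWt wt (wt i) (psi k (MvPolynomial.X i)) ∧
      comp wt (wt i) (psi k (MvPolynomial.X i)) = (k : Mdl ι κ) ^ wt i * MvPolynomial.X i := by
  rcases i with ⟨l, m⟩ | a
  · have hc : ∀ D, comp (wt (κ := κ)) D (psi k (MvPolynomial.X (Sum.inl (l, m)))) =
        MvPolynomial.C ((q k ^ (m + 1)).coeff D) * pv l D := fun D => by simp [psi, comp_Lam]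
    constructor
    · intro D hD
      simp only [wt, Sum.elim_inl] at hD
      rw [hc, q_eq, mul_pow, Polynomial.coeff_X_pow_mul', if_neg (by omega), map_zero, zero_mul]
    · change comp wt (m + 1) _ = (k : Mdl ι κ) ^ (m + 1) * _
      rw [hc, q_eq, mul_pow, Polynomial.coeff_X_pow_mul', if_pos le_rfl, Nat.sub_self,
        Polynomial.coeff_zero_eq_eval_zero, Polynomial.eval_pow, Polynomial.eval_finsetSum]
      simp [pv]
  · have hq : psi (ι := ι) k (MvPolynomial.X (Sum.inr a)) =
        MvPolynomial.X (Sum.inr a) *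
          ∑ i ∈ range k, (1 + MvPolynomial.X (Sum.inr a) : Mdl ι κ) ^ i := by
      simp only [psi, MvPolynomial.aeval_X, Sum.elim_inr]
      rw [← geom_sum_mul, add_sub_cancel_left, mul_comm]
    have hX := highWt_X (A := ℚ) (wt (ι := ι) (κ := κ)) (Sum.inr a)
    constructor
    · rw [hq, mul_comm]; exact hX.const_mul _ _
    · rw [hq]
      have h := comp_mul_lead wt hX
        (HighWt.weight_zero wt (∑ i ∈ range k, (1 + MvPolynomial.X (Sum.inr a) : Mdl ι κ) ^ i))
      rw [add_zero] at h
      rw [h]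
      simp [comp, θ_X, wt, Sum.elim_inr, map_sum]
      ring

theorem lead_prod (k : ℕ) {M N : ℕ} {p r : Mdl ι κ}
    (hp : HighWt wt M (psi k p) ∧ comp wt M (psi k p) = (k : Mdl ι κ) ^ M * comp wt M p)
    (hr : HighWt wt N (psi k r) ∧ comp wt N (psi k r) = (k : Mdl ι κ) ^ N * comp wt N r)
    (hp0 : HighWt wt M p) (hr0 : HighWt wt N r) :
    HighWt wt (M + N) (psi k (p * r)) ∧
      comp wt (M + N) (psi k (p * r)) = (k : Mdl ι κ) ^ (M + N) * comp wt (M + N) (p * r) := by
  rw [map_mul]
  refine ⟨hp.1.mul _ hr.1, ?_⟩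
  rw [comp_mul_lead wt hp.1 hr.1, hp.2, hr.2, comp_mul_lead wt hp0 hr0, pow_add]
  ring

theorem comp_X_self (i : (ι × ℕ) ⊕ κ) :
    comp (wt (ι := ι) (κ := κ)) (wt i) (MvPolynomial.X i) = (MvPolynomial.X i : Mdl ι κ) := by
  rw [comp, θ_X, PowerSeries.coeff_C_mul, PowerSeries.coeff_X_pow, if_pos rfl, mul_one]

theorem highWt_monomial (e : (ι × ℕ) ⊕ κ →₀ ℕ) (c : ℚ) :
    HighWt (wt (ι := ι) (κ := κ)) (e.sum fun i n => n * wt i) (MvPolynomial.monomial e c) := by
  intro D hD
  rw [comp, θ_monomial, PowerSeries.coeff_C_mul, PowerSeries.coeff_X_pow, if_neg (by omega),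
    mul_zero]

theorem lead_monomial (k : ℕ) (e : (ι × ℕ) ⊕ κ →₀ ℕ) (c : ℚ) :
    HighWt wt (e.sum fun i n => n * wt i) (psi k (MvPolynomial.monomial e c)) ∧
      comp wt (e.sum fun i n => n * wt i) (psi k (MvPolynomial.monomial e c)) =
        (k : Mdl ι κ) ^ (e.sum fun i n => n * wt i) *
          comp wt (e.sum fun i n => n * wt i) (MvPolynomial.monomial e c) := by
  classical
  induction e using Finsupp.induction generalizing c with
  | zero =>
    simp only [Finsupp.sum_zero_index, pow_zero, one_mul]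
    rw [show MvPolynomial.monomial 0 c = (MvPolynomial.C c : Mdl ι κ) from rfl]
    refine ⟨HighWt.weight_zero _ _, ?_⟩
    simp [psi]
  | single_add i n f _ _ ih =>
    rw [Finsupp.sum_add_index' (by simp) (by intros; ring), Finsupp.sum_single_index (by simp)]
    have hX : ∀ n : ℕ, HighWt wt (n * wt i) (psi k ((MvPolynomial.X i : Mdl ι κ) ^ n)) ∧
        comp wt (n * wt i) (psi k ((MvPolynomial.X i : Mdl ι κ) ^ n)) =
          (k : Mdl ι κ) ^ (n * wt i) * comp wt (n * wt i) ((MvPolynomial.X i : Mdl ι κ) ^ n) ∧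
        HighWt wt (n * wt i) ((MvPolynomial.X i : Mdl ι κ) ^ n) := by
      intro n
      induction n with
      | zero =>
        simp only [zero_mul, pow_zero, one_mul, map_one]
        exact ⟨HighWt.weight_zero _ _, trivial, HighWt.weight_zero _ _⟩
      | succ n ihn =>
        have h1 : HighWt wt (wt i) (psi k (MvPolynomial.X i)) ∧
            comp wt (wt i) (psi k (MvPolynomial.X i)) =
              (k : Mdl ι κ) ^ wt i * comp wt (wt i) (MvPolynomial.X i) := by
          refine ⟨(lead_X k i).1, ?_⟩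
          rw [(lead_X k i).2, comp_X_self]
        have h := lead_prod k ⟨ihn.1, ihn.2.1⟩ h1 ihn.2.2 (highWt_X _ i)
        rw [Nat.succ_mul, pow_succ]
        exact ⟨h.1, h.2, ihn.2.2.mul _ (highWt_X _ i)⟩
    have h := lead_prod k ⟨(hX n).1, (hX n).2.1⟩ (ih c) (hX n).2.2 (highWt_monomial f c)
    have hm : (MvPolynomial.monomial (Finsupp.single i n + f) c : Mdl ι κ) =
        MvPolynomial.X i ^ n * MvPolynomial.monomial f c := by
      rw [MvPolynomial.X_pow_eq_monomial, MvPolynomial.monomial_mul, one_mul]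
    rwa [hm]

theorem lead (k : ℕ) {R : ℕ} {p : Mdl ι κ} (hp : HighWt wt R p) :
    HighWt wt R (psi k p) ∧ comp wt R (psi k p) = (k : Mdl ι κ) ^ R * comp wt R p := by
  have key : ∀ e ∈ p.support, HighWt wt R (psi k (MvPolynomial.monomial e (p.coeff e))) ∧
      comp wt R (psi k (MvPolynomial.monomial e (p.coeff e))) =
        (k : Mdl ι κ) ^ R * comp wt R (MvPolynomial.monomial e (p.coeff e)) := by
    intro e he
    have hle := hp.le_of_mem wt he
    obtain ⟨h1, h2⟩ := lead_monomial k e (p.coeff e)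
    refine ⟨h1.mono _ hle, ?_⟩
    rcases eq_or_lt_of_le hle with h | h
    · rw [h]; exact h2
    · rw [h1 R h, highWt_monomial e (p.coeff e) R h, mul_zero]
  constructor
  · rw [p.as_sum, map_sum]
    exact HighWt.sum _ fun e he => (key e he).1
  · conv_lhs => rw [p.as_sum]
    conv_rhs => rw [p.as_sum]
    rw [map_sum]
    change compHom R _ = _ * compHom R _
    rw [map_sum, map_sum, mul_sum]
    exact sum_congr rfl fun e he => (key e he).2

theorem psi_zero {p : Mdl ι κ} (hp : HighWt wt 1 p) : psi 0 p = 0 := by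
  rw [p.as_sum, map_sum]
  refine sum_eq_zero fun e he => ?_
  have hle := hp.le_of_mem wt he
  obtain ⟨i, hi⟩ : ∃ i, e i ≠ 0 := by
    by_contra hc
    push Not at hc
    rw [show e = 0 from Finsupp.ext hc, Finsupp.sum_zero_index] at hle
    omega
  rw [psi, MvPolynomial.aeval_monomial, Finsupp.prod,
    prod_eq_zero (Finsupp.mem_support_iff.2 hi) ?_, mul_zero]
  rcases i with ⟨l, m⟩ | a
  · simp [q, zero_pow hi]
  · simp [zero_pow hi]

theorem gamma_highWt {y : Mdl ι κ} {R : ℕ} (hR : 1 ≤ R) (hy : HighWt wt R y) :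
    (∀ n, 1 ≤ n → HighWt wt (max n R) (gamma n y)) ∧
      comp wt R (gamma R y) =
        (-1) ^ (R - 1) * ((R - 1).factorial : Mdl ι κ) * comp wt R y := by
  set g := gh (fun i => gamma i y) with hg
  have hN : Newton (fun i => gamma i y) g := newton_gh (gamma_zero y)
  have hf : ∀ D k, comp wt D (adamsOp k y) = comp wt D (psi k y) := by
    intro D k
    rcases k with - | k
    · rw [psi_zero (hy.mono _ hR)]; rfl
    · rw [adamsOp_eq (by omega)]
  have hgD : ∀ p D, 1 ≤ p → comp wt D (g p) = Δ_[1]^[p] (fun k => comp wt D (psi k y)) 0 := by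
    intro p D hp
    rw [hg, gh_gamma y hp, ← funext (hf D)]
    exact map_fwdDiff (compHom D) _ p
  have hgH : ∀ p, 1 ≤ p → HighWt wt (max p R) (g p) := by
    intro p hp D hD
    rw [hgD p D hp]
    rcases Nat.lt_or_ge D R with h | h
    · simp only [fun k => (lead k hy).1 D h]
      simp [fwdDiff_iter_eq_sum_shift]
    · exact (degLe_comp_psi y D).fwdDiff_eq_zero (by omega)
  have hgR : comp wt R (g R) = (R.factorial : Mdl ι κ) * comp wt R y := by
    rw [hgD R R hR]
    simp only [fun k => (lead k hy).2]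
    exact fwdDiff_pow_mul R _
  have cancel : ∀ (n : ℕ) (D : ℕ) (z : Mdl ι κ),
      comp wt D (((n : Mdl ι κ) + 1) * z) = ((n : Mdl ι κ) + 1) * comp wt D z := fun n D z => by
    rw [← Nat.cast_one, ← Nat.cast_add, comp_natCast_mul]
  have hγ : ∀ n, 1 ≤ n → HighWt wt (max n R) (gamma n y) := by
    intro n
    induction n using Nat.strong_induction_on with
    | _ n ih =>
      intro hn
      obtain ⟨m, rfl⟩ : ∃ m, n = m + 1 := ⟨n - 1, by omega⟩
      intro D hD
      refine rat_cancel m _ _ ?_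
      rw [mul_zero, ← cancel, hN.2 m]
      refine (HighWt.sum _ fun i hi => ?_) D hD
      simp only [mem_range] at hi
      rw [mul_assoc]
      refine HighWt.const_mul _ _ ?_
      rcases Nat.eq_zero_or_pos (m - i) with h | h
      · simp only [h, gamma_zero, mul_one]
        exact (hgH (i + 1) (by omega)).mono _ (by omega)
      · exact ((hgH (i + 1) (by omega)).mul _ (ih (m - i) (by omega) h)).mono _ (by omega)
  refine ⟨hγ, ?_⟩
  obtain ⟨m, rfl⟩ : ∃ m, R = m + 1 := ⟨R - 1, by omega⟩
  refine rat_cancel m _ _ ?_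
  rw [← cancel, hN.2 m]
  change compHom (m + 1) _ = _
  rw [map_sum, sum_eq_single m]
  · change comp wt (m + 1) _ = _
    simp only [Nat.sub_self, gamma_zero, mul_one]
    rw [comp_neg_one_pow_mul, hgR, Nat.add_sub_cancel,
      Nat.factorial_succ, Nat.cast_mul, Nat.cast_add, Nat.cast_one]
    ring
  · intro i hi hne
    simp only [mem_range] at hi
    change comp wt (m + 1) _ = 0
    rw [mul_assoc, comp_neg_one_pow_mul,
      ((hgH (i + 1) (by omega)).mul _ (hγ (m - i) (by omega))) (m + 1) (by omega), mul_zero]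
  · intro h; simp at h

end Mdl

end Groth.L08.Lambda
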