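import Groth.Agent.L22.Lambda
import Groth.Prelude.Def_LambdaSp
import Mathlib.RingTheory.PowerSeries.Derivative
import Mathlib.Algebra.Algebra.Rat
import Mathlib.Algebra.Module.Rat
import Mathlib.Tactic.LinearCombination

/-!
Newton pairs: a sequence of "elementary symmetric functions" with its "power sums".
-/

universe u v

namespace Groth.L08.Lambda

open Finset

variable {R : Type u} [CommRing R]

/-- The pair `(c, q)` satisfies Newton's identities. -/
def Newton (c q : ℕ → R) : Prop :=
  c 0 = 1 ∧ ∀ n : ℕ, ((n : R) + 1) * c (n + 1) = ∑ i ∈ range (n + 1), (-1) ^ i * q (i + 1) * c (n - i)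

/-- The power sums determined by a sequence. -/
def gh (c : ℕ → R) : ℕ → R
  | 0 => 0
  | n + 1 => (-1) ^ n * (((n : R) + 1) * c (n + 1) -
      ∑ i : Fin n, (-1) ^ (i : ℕ) * gh c ((i : ℕ) + 1) * c (n - i))
decreasing_by omega

theorem newton_gh {c : ℕ → R} (h : c 0 = 1) : Newton c (gh c) := by
  refine ⟨h, fun n => ?_⟩
  rw [sum_range_succ, Nat.sub_self, h, mul_one]
  conv_rhs => arg 2; rw [gh.eq_2]
  rw [← mul_assoc, ← mul_pow, neg_one_mul, neg_neg, one_pow, one_mul,
    Fin.sum_univ_eq_sum_range (fun i => (-1) ^ i * gh c (i + 1) * c (n - i)) n]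
  ring

namespace Newton

variable {S : Type v} [CommRing S]

theorem map {c q : ℕ → R} (h : Newton c q) (φ : R →+* S) :
    Newton (fun i => φ (c i)) (fun i => φ (q i)) := by
  refine ⟨by simp [h.1], fun n => ?_⟩
  simpa [map_sum] using congrArg φ (h.2 n)

theorem congr {c q c' q' : ℕ → R} (h : Newton c q) (hc : ∀ i, c i = c' i)
    (hq : ∀ i, q (i + 1) = q' (i + 1)) : Newton c' q' := by
  refine ⟨(hc 0).symm.trans h.1, fun n => ?_⟩
  simp only [← hc, ← hq]
  exact h.2 n

/-- The power sums only depend on the sequence, in each degree. -/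
theorem q_eq {c q c' q' : ℕ → R} (h : Newton c q) (h' : Newton c' q') (N : ℕ)
    (hc : ∀ i ≤ N, c i = c' i) : ∀ k, 1 ≤ k → k ≤ N → q k = q' k := by
  intro k
  induction k using Nat.strong_induction_on with
  | _ k ih =>
    intro hk hN
    obtain ⟨n, rfl⟩ : ∃ n, k = n + 1 := ⟨k - 1, by omega⟩
    have e := h.2 n
    have e' := h'.2 n
    rw [sum_range_succ, Nat.sub_self, h.1, mul_one] at e
    have hs : ∑ i ∈ range n, (-1) ^ i * q (i + 1) * c (n - i) =
        ∑ i ∈ range n, (-1) ^ i * q' (i + 1) * c' (n - i) := by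
      refine sum_congr rfl fun i hi => ?_
      simp only [mem_range] at hi
      rw [ih (i + 1) (by omega) (by omega) (by omega), hc (n - i) (by omega)]
    rw [sum_range_succ, Nat.sub_self, h'.1, mul_one, ← hc (n + 1) hN, ← hs] at e'
    have e2 := (e.symm.trans e')
    rw [add_right_inj] at e2
    calc q (n + 1) = (-1) ^ n * ((-1) ^ n * q (n + 1)) := by
          rw [← mul_assoc, ← mul_pow, neg_one_mul, neg_neg, one_pow, one_mul]
      _ = _ := by
          rw [e2, ← mul_assoc, ← mul_pow, neg_one_mul, neg_neg, one_pow, one_mul]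

theorem eq_gh {c q : ℕ → R} (h : Newton c q) (k : ℕ) (hk : 1 ≤ k) : q k = gh c k :=
  q_eq h (newton_gh h.1) k (fun _ _ => rfl) k hk le_rfl

/-- Without torsion, the sequence only depends on the power sums, in each degree. -/
theorem c_eq {c q c' q' : ℕ → R} (h : Newton c q) (h' : Newton c' q')
    (hR : ∀ (n : ℕ) (a b : R), ((n : R) + 1) * a = ((n : R) + 1) * b → a = b) (N : ℕ)
    (hq : ∀ k, 1 ≤ k → k ≤ N → q k = q' k) : ∀ i, i ≤ N → c i = c' i := by
  intro i
  induction i using Nat.strong_induction_on with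
  | _ i ih =>
    intro hN
    rcases i with - | n
    · rw [h.1, h'.1]
    refine hR n _ _ ?_
    rw [h.2, h'.2]
    refine sum_congr rfl fun j hj => ?_
    simp only [mem_range] at hj
    rw [hq (j + 1) (by omega) (by omega), ih (n - j) (by omega) (by omega)]

end Newton

theorem gh_map {S : Type v} [CommRing S] (φ : R →+* S) {c : ℕ → R} (h : c 0 = 1) (k : ℕ) :
    φ (gh c k) = gh (fun i => φ (c i)) k := by
  rcases k with - | k
  · simp [gh]
  · exact ((newton_gh h).map φ).eq_gh (k + 1) (by omega)

theorem gh_congr {c c' : ℕ → R} (h : c 0 = 1) (N : ℕ) (hc : ∀ i ≤ N, c i = c' i) (k : ℕ)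
    (hk : k ≤ N) : gh c k = gh c' k := by
  rcases k with - | k
  · simp [gh]
  · exact Newton.q_eq (newton_gh h) (newton_gh (by rw [← hc 0 (by omega), h])) N hc _ (by omega) hk

theorem gh_one_eq {c : ℕ → R} : gh c 1 = c 1 := by
  rw [gh.eq_2]; simp

section Rat

variable [Algebra ℚ R]

theorem rat_cancel (n : ℕ) (a b : R) (h : ((n : R) + 1) * a = ((n : R) + 1) * b) : a = b := by
  have hn : ((n : R) + 1) = algebraMap ℚ R ((n : ℚ) + 1) := by
    rw [map_add, map_natCast, map_one]
  have hu : IsUnit ((n : R) + 1) := by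
    rw [hn]
    exact (IsUnit.mk0 _ (by positivity)).map _
  exact hu.mul_left_cancel h

/-- The sequence determined by power sums, over the rationals. -/
def ofGh (q : ℕ → R) : ℕ → R
  | 0 => 1
  | n + 1 => algebraMap ℚ R (1 / ((n : ℚ) + 1)) *
      ∑ i : Fin (n + 1), (-1) ^ (i : ℕ) * q ((i : ℕ) + 1) * ofGh q (n - i)
decreasing_by omega

theorem newton_ofGh (q : ℕ → R) : Newton (ofGh q) q := by
  refine ⟨ofGh.eq_1 q, fun n => ?_⟩
  conv_lhs => rw [ofGh.eq_2]
  rw [← mul_assoc, show ((n : R) + 1) = algebraMap ℚ R ((n : ℚ) + 1) by rw [map_add, map_natCast, map_one], ← map_mul,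
    mul_one_div_cancel (by positivity), map_one, one_mul,
    Fin.sum_univ_eq_sum_range (fun i => (-1) ^ i * q (i + 1) * ofGh q (n - i)) (n + 1)]

theorem Newton.eq_ofGh {c q : ℕ → R} (h : Newton c q) (i : ℕ) : c i = ofGh q i :=
  h.c_eq (newton_ofGh q) rat_cancel i (fun _ _ _ => rfl) i le_rfl

theorem ofGh_congr {q q' : ℕ → R} (N : ℕ) (hq : ∀ k, 1 ≤ k → k ≤ N → q k = q' k) (i : ℕ)
    (hi : i ≤ N) : ofGh q i = ofGh q' i :=
  (newton_ofGh q).c_eq (newton_ofGh q') rat_cancel N hq i hi

theorem gh_ofGh (q : ℕ → R) (k : ℕ) (hk : 1 ≤ k) : gh (ofGh q) k = q k :=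
  ((newton_ofGh q).eq_gh k hk).symm

theorem map_ofGh {S : Type v} [CommRing S] [Algebra ℚ S] (φ : R →+* S) (q : ℕ → R) (i : ℕ) :
    φ (ofGh q i) = ofGh (fun k => φ (q k)) i :=
  ((newton_ofGh q).map φ).eq_ofGh i

end Rat

section Series

open PowerSeries (mk coeff derivative)

/-- The generating series of alternating power sums. -/
noncomputable def altSeries (q : ℕ → R) : PowerSeries R := mk fun i => (-1) ^ i * q (i + 1)

theorem newton_iff {c q : ℕ → R} :
    Newton c q ↔ c 0 = 1 ∧ derivative R (mk c) = altSeries q * mk c := by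
  refine and_congr_right fun _ => ?_
  rw [PowerSeries.ext_iff]
  refine forall_congr' fun n => ?_
  rw [PowerSeries.coeff_derivative, PowerSeries.coeff_mk, PowerSeries.coeff_mul,
    Finset.Nat.sum_antidiagonal_eq_sum_range_succ_mk]
  simp only [altSeries, PowerSeries.coeff_mk]
  rw [mul_comm (c (n + 1))]

theorem Newton.mul {c q c' q' d : ℕ → R} (h : Newton c q) (h' : Newton c' q')
    (hd : mk d = mk c * mk c') : Newton d (fun k => q k + q' k) := by
  rw [newton_iff] at *
  constructor
  · have := congrArg (coeff 0) hd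
    simpa [h.1, h'.1, PowerSeries.coeff_mul] using this
  · rw [hd, Derivation.leibniz, h.2, h'.2]
    have : altSeries (fun k => q k + q' k) = altSeries q + altSeries q' := by
      ext i; simp [altSeries]; ring
    rw [this, smul_eq_mul, smul_eq_mul]
    ring

theorem newton_linear (u : R) :
    Newton (fun i => if i = 0 then 1 else if i = 1 then u else 0) (fun k => u ^ k) := by
  refine ⟨rfl, fun n => ?_⟩
  rcases n with - | n
  · simp
  · rw [sum_range_succ, sum_range_succ, sum_eq_zero]
    · simp [pow_succ]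
      ring
    · intro i hi
      simp only [mem_range] at hi
      dsimp only
      rw [if_neg (by omega), if_neg (by omega), mul_zero]

/-- Newton's identities for a multiset. -/
theorem newton_esymm (s : Multiset R) :
    Newton (fun i => s.esymm i) (fun k => (s.map fun a => a ^ k).sum) := by
  induction s using Multiset.induction with
  | empty =>
    refine ⟨by simp [Multiset.esymm], fun n => ?_⟩
    simp [Multiset.esymm, Multiset.powersetCard_zero_right]
  | cons a s ih =>
    refine (Newton.mul (newton_linear a) ih ?_).congr (fun _ => rfl) (fun i => by simp)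
    ext n
    rw [PowerSeries.coeff_mk, ← L22.Lambda.coeff_prod_one_add, Multiset.map_cons,
      Multiset.prod_cons, PowerSeries.coeff_mul, PowerSeries.coeff_mul]
    refine sum_congr rfl fun p _ => ?_
    rw [PowerSeries.coeff_mk, PowerSeries.coeff_mk, L22.Lambda.coeff_prod_one_add,
      L22.Lambda.coeff_one_add_C_mul_X]

end Series

section Ops

open LambdaRing PowerSeries

variable [LambdaOps R]

theorem newton_lam (x : R) : Newton (fun i => LambdaOps.lam i x) (fun k => adamsOp k x) := by
  rw [newton_iff]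
  refine ⟨LambdaOps.lam_zero x, ?_⟩
  have h : altSeries (fun k => adamsOp k x) = logDerivSeries x := by
    ext i
    simp [altSeries, adamsOp, ← mul_assoc, ← mul_pow]
  change derivative R (lamSeries x) = _ * lamSeries x
  rw [h, logDerivSeries, mul_assoc,
    invOfUnit_mul _ 1 (by rw [L22.Lambda.constantCoeff_lamSeries]; rfl), mul_one]

theorem adamsOp_eq_gh {k : ℕ} (hk : 1 ≤ k) (x : R) :
    adamsOp k x = gh (fun i => LambdaOps.lam i x) k :=
  (newton_lam x).eq_gh k hk

theorem adamsOp_add (k : ℕ) (x y : R) : adamsOp k (x + y) = adamsOp k x + adamsOp k y := by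
  rcases k with - | k
  · simp [adamsOp]
  · refine Newton.q_eq (newton_lam (x + y)) ((newton_lam x).mul (newton_lam y)
      (L22.Lambda.lamSeries_add x y)) (k + 1) (fun _ _ => rfl) (k + 1) (by omega) le_rfl

/-- The Adams operation as an additive map. -/
noncomputable def adamsOpHom (k : ℕ) : R →+ R := AddMonoidHom.mk' (adamsOp k) (adamsOp_add k)

end Ops

end Groth.L08.Lambda
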