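import Groth.Agent.L08.Lambda.Special
import Groth.Agent.L08.Lambda.Gamma

/-!
λ- and γ-operations of a binomial multiple of an element.
-/

universe u v

namespace Groth.L08.Lambda

open Finset LambdaRing
open PowerSeries (coeff constantCoeff)

section Series

variable {R : Type u} [CommRing R]

theorem eq_zero_of_derivative_eq
    (hR : ∀ (n : ℕ) (a b : R), ((n : R) + 1) * a = ((n : R) + 1) * b → a = b)
    (E G : PowerSeries R) (N : ℕ) (h0 : coeff 0 E = 0)
    (h : ∀ m < N, coeff m (PowerSeries.derivative R E) = coeff m (G * E)) :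
    ∀ m ≤ N, coeff m E = 0 := by
  intro m
  induction m using Nat.strong_induction_on with
  | _ m ih =>
    intro hm
    rcases m with - | m
    · exact h0
    refine hR m _ _ ?_
    have := h m (by omega)
    rw [PowerSeries.coeff_derivative, mul_comm] at this
    rw [this, mul_zero, PowerSeries.coeff_mul]
    refine sum_eq_zero fun p hp => ?_
    rw [mem_antidiagonal] at hp
    rw [ih p.2 (by omega) (by omega), mul_zero]

/-- The partial binomial series `Σ_{j ≤ N} b_j U^j`. -/
noncomputable def binSeries (b : ℕ → R) (U : PowerSeries R) (N : ℕ) : PowerSeries R :=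
  ∑ j ∈ range (N + 1), PowerSeries.C (b j) * U ^ j

theorem binSeries_deriv (b : ℕ → R) (c : R) (U : PowerSeries R) (N : ℕ)
    (hb : ∀ j : ℕ, ((j : R) + 1) * b (j + 1) = (c - j) * b j) :
    PowerSeries.derivative R (binSeries b U N) * (1 + U) =
      PowerSeries.derivative R U * (PowerSeries.C c * binSeries b U N) +
        PowerSeries.derivative R U * (PowerSeries.C (((N : R) - c) * b N) * U ^ N) := by
  induction N with
  | zero =>
    simp only [binSeries, zero_add, sum_range_one, pow_zero, mul_one, PowerSeries.derivative_C,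
      zero_mul, Nat.cast_zero, zero_sub]
    rw [← mul_add, ← map_mul, ← map_add]
    simp
  | succ N ih =>
    have hs : binSeries b U (N + 1) = binSeries b U N + PowerSeries.C (b (N + 1)) * U ^ (N + 1) :=
      sum_range_succ _ _
    rw [hs, map_add, Derivation.leibniz, PowerSeries.derivative_C, smul_zero, add_zero,
      Derivation.leibniz_pow, Nat.add_sub_cancel, add_mul, ih]
    simp only [smul_eq_mul, nsmul_eq_mul]
    have hC : PowerSeries.C ((N + 1 : ℕ) : R) * PowerSeries.C (b (N + 1)) =
        PowerSeries.C ((c - N) * b N) := by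
      rw [← map_mul, Nat.cast_succ, hb]
    push_cast at hC ⊢
    simp only [map_sub, map_mul, map_add, map_natCast, map_one] at hC ⊢
    linear_combination (PowerSeries.derivative R U * U ^ N) * hC

end Series

variable {K : Type u} [CommRing K] [BinomialRing K] {A : Type v} [CommRing A] [LambdaOps A]
  [Algebra K A]

attribute [local instance] BinomialRing.toIsAddTorsionFree

theorem mvPolynomial_cancel {σ : Type*} (n : ℕ) (a b : MvPolynomial σ K)
    (h : ((n : MvPolynomial σ K) + 1) * a = ((n : MvPolynomial σ K) + 1) * b) : a = b := by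
  ext e
  refine natCast_succ_cancel n _ _ ?_
  have h' := congrArg (MvPolynomial.coeff e) h
  rwa [← map_natCast (MvPolynomial.C (σ := σ) (R := K)), ← MvPolynomial.C_1, ← map_add,
    MvPolynomial.coeff_C_mul, MvPolynomial.coeff_C_mul] at h'

theorem coeff_binSeries_universal (P : ∀ n, MvPolynomial (Fin n ⊕ Fin n) ℤ)
    (hP : ∀ n, IsMulPoly n (P n)) (c : K) (N m : ℕ) (hm : m ≤ N) :
    mulSeq P (fun i => MvPolynomial.C (Ring.choose c i)) (genSeq ℕ id K) m =
      coeff m (binSeries (fun j => MvPolynomial.C (σ := ℕ) (Ring.choose c j))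
        (PowerSeries.mk (genSeq ℕ id K) - 1) N) := by
  set b : ℕ → MvPolynomial ℕ K := fun i => MvPolynomial.C (Ring.choose c i) with hb
  set a := genSeq ℕ id K with ha
  have ha0 : a 0 = 1 := if_pos rfl
  have hb0 : b 0 = 1 := by simp [hb, Ring.choose_zero_right]
  obtain ⟨h0, hk⟩ := mul_key hP b a hb0 ha0
  have hbq : ∀ k, 1 ≤ k → gh b k = MvPolynomial.C c := fun k hk =>
    (((newton_choose c).map (MvPolynomial.C (σ := ℕ))).eq_gh k hk).symm
  have hN : Newton (mulSeq P b a) (fun k => MvPolynomial.C c * gh a k) := by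
    refine (newton_gh h0).congr (fun _ => rfl) fun i => ?_
    rw [hk (i + 1) (by omega), hbq (i + 1) (by omega)]
  have hD := (newton_iff.1 hN).2
  have hA := (newton_iff.1 (newton_gh ha0)).2
  set U : PowerSeries (MvPolynomial ℕ K) := PowerSeries.mk a - 1 with hU
  set S := binSeries b U N with hS
  have hcU : PowerSeries.constantCoeff U = 0 := by
    rw [hU, map_sub, map_one, ← PowerSeries.coeff_zero_eq_constantCoeff_apply, PowerSeries.coeff_mk,
      ha0, sub_self]
  have hder : PowerSeries.derivative _ S * (1 + U) =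
      PowerSeries.derivative _ U * (PowerSeries.C (MvPolynomial.C c) * S) +
        PowerSeries.derivative _ U *
          (PowerSeries.C (((N : MvPolynomial ℕ K) - MvPolynomial.C c) * b N) * U ^ N) := by
    refine binSeries_deriv b _ U N fun j => ?_
    simp only [hb]
    rw [← map_natCast (MvPolynomial.C (σ := ℕ) (R := K)), ← MvPolynomial.C_1, ← map_add, ← map_sub,
      ← map_mul, ← map_mul, succ_mul_choose]
  have hu1 : 1 + U = PowerSeries.mk a := by rw [hU]; ring
  have hU' : PowerSeries.derivative _ U = altSeries (gh a) * PowerSeries.mk a := by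
    rw [hU, map_sub, Derivation.map_one_eq_zero, sub_zero, hA]
  have hunit : IsUnit (PowerSeries.mk a) := by
    rw [PowerSeries.isUnit_iff_constantCoeff, ← PowerSeries.coeff_zero_eq_constantCoeff_apply,
      PowerSeries.coeff_mk, ha0]
    exact isUnit_one
  rw [hu1, hU'] at hder
  have hder' : PowerSeries.derivative _ S =
      altSeries (gh a) * (PowerSeries.C (MvPolynomial.C c) * S) +
        altSeries (gh a) *
          (PowerSeries.C (((N : MvPolynomial ℕ K) - MvPolynomial.C c) * b N) * U ^ N) := by
    refine hunit.mul_right_cancel ?_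
    rw [hder]; ring
  have halt : altSeries (fun k => MvPolynomial.C c * gh a k) =
      PowerSeries.C (MvPolynomial.C c) * altSeries (gh a) := by
    ext1 i
    simp only [altSeries, PowerSeries.coeff_mk, PowerSeries.coeff_C_mul]
    ring
  have hE := eq_zero_of_derivative_eq mvPolynomial_cancel (S - PowerSeries.mk (mulSeq P b a))
    (PowerSeries.C (MvPolynomial.C c) * altSeries (gh a)) N ?_ ?_ m hm
  · rw [map_sub, PowerSeries.coeff_mk, sub_eq_zero] at hE
    exact hE.symm
  · rw [map_sub, PowerSeries.coeff_mk, h0, hS, binSeries, map_sum, sum_eq_single 0]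
    · simp [hb0]
    · intro j _ hj
      rw [PowerSeries.coeff_C_mul, PowerSeries.coeff_zero_eq_constantCoeff_apply, map_pow, hcU,
        zero_pow hj, mul_zero]
    · intro h; simp at h
  · intro n hn
    rw [map_sub, hder', hD, halt, map_sub, map_add, mul_sub, map_sub, ← mul_assoc,
      mul_comm (altSeries (gh a)) (PowerSeries.C (MvPolynomial.C c))]
    have hX : PowerSeries.X ∣ U := by rwa [PowerSeries.X_dvd_iff]
    have h : coeff n (altSeries (gh a) *
        (PowerSeries.C (((N : MvPolynomial ℕ K) - MvPolynomial.C c) * b N) * U ^ N)) = 0 :=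
      PowerSeries.X_pow_dvd_iff.1 (((pow_dvd_pow_of_dvd hX N).mul_left _).mul_left _) n hn
    rw [h, add_zero]

variable [LambdaOps K]

theorem lam_smul (hA : IsSpecial A) (hKA : IsLambdaAlg K A) (hKb : IsBinomial K) (c : K) (y : A)
    {m N : ℕ} (hm : m ≤ N) :
    LambdaOps.lam m (algebraMap K A c * y) =
      coeff m (binSeries (fun j => algebraMap K A (Ring.choose c j)) (lamSeries y - 1) N) := by
  let φ : MvPolynomial ℕ K →+* A :=
    MvPolynomial.eval₂Hom (algebraMap K A) (fun i => LambdaOps.lam (i + 1) y)
  have h := congrArg φ (coeff_binSeries_universal mulPoly isMulPoly_mulPoly c N m hm)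
  have ha : ∀ i, φ (genSeq ℕ id K i) = LambdaOps.lam i y := by
    intro i
    unfold genSeq
    rcases i with - | i
    · simp [LambdaOps.lam_zero]
    · simp [φ]
  have hb : ∀ i, φ (MvPolynomial.C (Ring.choose c i)) = LambdaOps.lam i (algebraMap K A c) := by
    intro i
    simp only [φ, MvPolynomial.eval₂Hom_C]
    rw [← hKA i c, hKb i c]
  rw [map_mulSeq] at h
  simp only [ha, hb] at h
  rw [mulSeq, ← hA.lam_mul m _ (isMulPoly_mulPoly m)] at h
  rw [h, ← PowerSeries.coeff_map]
  congr 1
  rw [binSeries, binSeries, map_sum]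
  refine sum_congr rfl fun j _ => ?_
  rw [map_mul, map_pow, PowerSeries.map_C, map_sub, map_one]
  congr 2
  · simp [φ]
  · congr 1
    ext i
    rw [PowerSeries.coeff_map, PowerSeries.coeff_mk, ha, L22.Lambda.coeff_lamSeries]

/-- The γ-operations of a binomial multiple. -/
theorem gamma_smul (hA : IsSpecial A) (hKA : IsLambdaAlg K A) (hKb : IsBinomial K) (c : K) (y : A)
    (n : ℕ) :
    gamma n (algebraMap K A c * y) =
      ∑ j ∈ range (n + 1), algebraMap K A (Ring.choose c j) * coeff n ((gammaSeries y - 1) ^ j) := by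
  set S := binSeries (fun j => algebraMap K A (Ring.choose c j)) (lamSeries y - 1) n with hS
  have h1 : coeff n (gammaSeries (algebraMap K A c * y)) =
      coeff n (PowerSeries.subst (gS A) S) := by
    have hdvd : PowerSeries.X ^ (n + 1) ∣ lamSeries (algebraMap K A c * y) - S := by
      rw [PowerSeries.X_pow_dvd_iff]
      intro m hm
      rw [map_sub, L22.Lambda.coeff_lamSeries, lam_smul hA hKA hKb c y (N := n) (by omega),
        ← hS, sub_self]
    obtain ⟨T, hT⟩ := hdvd
    have he : lamSeries (algebraMap K A c * y) = S + PowerSeries.X ^ (n + 1) * T := by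
      rw [← hT]; ring
    rw [gammaSeries, he, PowerSeries.subst_add hasSubst_gS, PowerSeries.subst_mul hasSubst_gS,
      PowerSeries.subst_pow hasSubst_gS, PowerSeries.subst_X hasSubst_gS, map_add]
    have hz : coeff n (gS A ^ (n + 1) * PowerSeries.subst (gS A) T) = 0 :=
      PowerSeries.X_pow_dvd_iff.1
        ((pow_dvd_pow_of_dvd (Dvd.intro _ rfl) (n + 1)).mul_right _) n (by omega)
    rw [hz, add_zero]
  rw [← coeff_gammaSeries, h1, hS, binSeries, ← PowerSeries.coe_substAlgHom hasSubst_gS, map_sum,
    map_sum]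
  refine sum_congr rfl fun j _ => ?_
  rw [map_mul, map_pow, map_sub, map_one, PowerSeries.coe_substAlgHom, ← gammaSeries,
    PowerSeries.subst_C]
  exact PowerSeries.coeff_C_mul n _ _

end Groth.L08.Lambda
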