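import Groth.Agent.L08.Lambda.Divide
import Groth.Agent.L08.Lambda.Filt
import Groth.Agent.L08.Lambda.Smul

/-!
The filtration weight of γ-operations on an element (times the top γ-operation of a rank `d`
element).
-/

universe u v

namespace Groth.L08.Lambda

open Finset LambdaRing

variable {A : Type v} [CommRing A] [LambdaOps A] (F : Filt A) (g : A) (d : ℕ)

/-- The expected estimates for `γ^n (x * g)`. -/
def Nice (i : ℕ) (x : A) : Prop :=
  ∃ H : ℕ → A, (∀ n, 1 ≤ n → gamma n (x * g) = g * H n ∧ H n ∈ F.W (max n (i + d) - d)) ∧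
    H (i + d) - (-1) ^ (i + d - 1) * ((i + d - 1).factorial : A) * x ∈ F.W (i + 1)

variable {F g d} {i : ℕ}

theorem gamma_zero_arg (n : ℕ) (hn : 1 ≤ n) : gamma n (0 : A) = 0 := by
  rw [← coeff_gammaSeries, gammaSeries_zero, PowerSeries.coeff_one, if_neg (by omega)]

theorem Nice.zero : Nice F g d i 0 :=
  ⟨0, fun n hn => ⟨by simp [gamma_zero_arg n hn], by simp⟩, by simp⟩

theorem Nice.add (hg : g ∈ F.W d) (hi : 1 ≤ i + d) {x y : A} (hx : Nice F g d i x)
    (hy : Nice F g d i y) : Nice F g d i (x + y) := by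
  obtain ⟨H, hH, hH'⟩ := hx
  obtain ⟨G, hG, hG'⟩ := hy
  let cross : ℕ → A := fun n => ∑ j ∈ range (n - 1), g * (H (j + 1) * G (n - 1 - j))
  have hW : ∀ n j, j < n - 1 → g * (H (j + 1) * G (n - 1 - j)) ∈
      F.W (d + ((max (j + 1) (i + d) - d) + (max (n - 1 - j) (i + d) - d))) := fun n j hj =>
    F.mul_mem hg (F.mul_mem (hH (j + 1) (by omega)).2 (hG (n - 1 - j) (by omega)).2)
  refine ⟨fun n => H n + G n + cross n, fun n hn => ⟨?_, ?_⟩, ?_⟩
  · obtain ⟨m, rfl⟩ : ∃ m, n = m + 1 := ⟨n - 1, by omega⟩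
    simp only [cross, Nat.add_sub_cancel]
    rw [add_mul, gamma_add, sum_range_succ', sum_range_succ, Nat.sub_zero, Nat.sub_self,
      gamma_zero, gamma_zero, one_mul, mul_one, (hH (m + 1) hn).1, (hG (m + 1) hn).1,
      mul_add g (H (m + 1) + G (m + 1)), mul_sum, mul_add]
    have hs : ∑ j ∈ range m, gamma (j + 1) (x * g) * gamma (m + 1 - (j + 1)) (y * g) =
        ∑ j ∈ range m, g * (g * (H (j + 1) * G (m - j))) := by
      refine sum_congr rfl fun j hj => ?_
      simp only [mem_range] at hj
      rw [Nat.add_sub_add_right, (hH (j + 1) (by omega)).1, (hG (m - j) (by omega)).1]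
      ring
    rw [hs]
    ring
  · refine add_mem (add_mem (hH n hn).2 (hG n hn).2) (sum_mem fun j hj => ?_)
    simp only [mem_range] at hj
    exact F.antitone (by omega) (hW n j hj)
  · have h : cross (i + d) ∈ F.W (i + 1) := sum_mem fun j hj => by
      simp only [mem_range] at hj
      exact F.antitone (by omega) (hW (i + d) j hj)
    convert add_mem (add_mem hH' hG') h using 1
    ring

variable {K : Type u} [CommRing K] [LambdaOps K] [BinomialRing K] [Algebra K A]

theorem Nice.smul (hA : IsSpecial A) (hKA : IsLambdaAlg K A) (hKb : IsBinomial K) (hg : g ∈ F.W d)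
    (hi : 1 ≤ i + d) (c : K) {x : A} (hx : Nice F g d i x) :
    Nice F g d i (algebraMap K A c * x) := by
  obtain ⟨H, hH, hH'⟩ := hx
  let U : PowerSeries A := PowerSeries.mk fun n => if n = 0 then 0 else H n
  have hU : gammaSeries (x * g) - 1 = PowerSeries.C g * U := by
    ext n
    rw [map_sub, coeff_gammaSeries, PowerSeries.coeff_one, PowerSeries.coeff_C_mul,
      PowerSeries.coeff_mk]
    rcases n with - | n
    · simp [gamma_zero]
    · rw [if_neg (by omega), if_neg (by omega), sub_zero, (hH (n + 1) (by omega)).1]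
  have hpow : ∀ j n, PowerSeries.coeff n (U ^ j) ∈ F.W (max n (j * (i + d)) - j * d) := by
    intro j
    induction j with
    | zero =>
      intro n
      rcases n with - | n
      · simpa using F.one_mem
      · simp [PowerSeries.coeff_one]
    | succ j ih =>
      intro n
      rw [pow_succ, PowerSeries.coeff_mul]
      refine sum_mem fun p hp => ?_
      rw [mem_antidiagonal] at hp
      by_cases h0 : p.2 = 0
      · simp [U, h0]
      simp only [U, PowerSeries.coeff_mk, if_neg h0]
      refine F.antitone ?_ (F.mul_mem (ih p.1) (hH p.2 (by omega)).2)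
      have h1 : j * d ≤ j * (i + d) := Nat.mul_le_mul le_rfl (Nat.le_add_left d i)
      rw [Nat.succ_mul, Nat.succ_mul]
      omega
  let T : ℕ → ℕ → A := fun n j =>
    algebraMap K A (Ring.choose c (j + 1)) * g ^ j * PowerSeries.coeff n (U ^ (j + 1))
  have hT : ∀ n j, T n j ∈ F.W (j * d + (max n ((j + 1) * (i + d)) - (j + 1) * d)) := fun n j => by
    simp only [T]
    rw [mul_assoc]
    exact (F.W _).mul_mem_left _ (F.mul_mem (F.pow_mem hg j) (hpow (j + 1) n))
  refine ⟨fun n => ∑ j ∈ range n, T n j, fun n hn => ⟨?_, sum_mem fun j _ => ?_⟩, ?_⟩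
  · rw [mul_assoc, gamma_smul hA hKA hKb, sum_range_succ', pow_zero, PowerSeries.coeff_one,
      if_neg (by omega), mul_zero, add_zero, mul_sum]
    refine sum_congr rfl fun j _ => ?_
    simp only [T]
    rw [hU, mul_pow, ← map_pow, PowerSeries.coeff_C_mul, pow_succ g]
    ring
  · refine F.antitone ?_ (hT n j)
    have h1 : j * d ≤ j * (i + d) := Nat.mul_le_mul le_rfl (Nat.le_add_left d i)
    rw [Nat.succ_mul, Nat.succ_mul]
    omega
  · obtain ⟨m, hm⟩ : ∃ m, i + d = m + 1 := ⟨i + d - 1, by omega⟩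
    change ∑ j ∈ range (i + d), T (i + d) j - _ ∈ _
    rw [hm, sum_range_succ']
    have hrest : ∑ j ∈ range m, T (m + 1) (j + 1) ∈ F.W (i + 1) := by
      refine sum_mem fun j hj => F.antitone ?_ (hT (m + 1) (j + 1))
      have h1 : j * d ≤ j * (i + d) := Nat.mul_le_mul le_rfl (Nat.le_add_left d i)
      have h2 : j * (i + d) = j * i + j * d := Nat.mul_add j i d
      rw [show (j + 1 + 1) * (i + d) = j * (i + d) + ((i + d) + (i + d)) by ring,
        show (j + 1 + 1) * d = j * d + (d + d) by ring, show (j + 1) * d = j * d + d by ring]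
      omega
    have h0 : T (m + 1) 0 = algebraMap K A c * H (i + d) := by
      simp [T, U, hm, Ring.choose_one_right]
    rw [h0]
    have := add_mem hrest ((F.W (i + 1)).mul_mem_left (algebraMap K A c) hH')
    convert this using 1
    rw [hm]
    ring

theorem nice_ev (hA : IsSpecial A) {ι : Type} (G : Gens ι d A) (hi : 1 ≤ i + d)
    (hx : ∀ l j, gamma (j + 1) (G.x l) ∈ F.W (j + 1))
    (hN : ∀ j, j < d → gamma (j + 1) G.N ∈ F.W (j + 1))
    (p : MvPolynomial (GVar ι d) ℤ) (hp : HighWt gwt i p) :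
    Nice F (gamma d G.N) d i (G.ev p) := by
  have h : ∀ n, ∃ q, 1 ≤ n → gamma d G.N * G.ev q = gamma n (G.ev p * gamma d G.N) ∧
      HighWt gwt (max n (i + d) - d) q ∧
      (n = i + d → comp gwt i q = (-1) ^ (i + d - 1) *
        ((i + d - 1).factorial : MvPolynomial (GVar ι d) ℤ) * comp gwt i p) := by
    intro n
    by_cases hn : 1 ≤ n
    · obtain ⟨q, hq⟩ := gamma_core_div hA G p hi hp hn; exact ⟨q, fun _ => hq⟩
    · exact ⟨0, fun h => absurd h hn⟩
  choose q hq using h
  refine ⟨fun n => G.ev (q n), fun n hn => ⟨(hq n hn).1.symm, F.ev_mem G hx hN (hq n hn).2.1⟩, ?_⟩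
  obtain ⟨-, h1, h2⟩ := hq (i + d) hi
  have hc : HighWt gwt (i + 1) (q (i + d) -
      (-1) ^ (i + d - 1) * ((i + d - 1).factorial : MvPolynomial (GVar ι d) ℤ) * p) := by
    refine HighWt.succ gwt ((h1.mono gwt (by omega)).sub gwt (hp.const_mul gwt _)) ?_
    rw [comp_sub, h2 rfl, mul_assoc, mul_assoc, comp_neg_one_pow_mul, comp_natCast_mul, sub_self]
  simpa using F.ev_mem G hx hN hc

theorem Nice.of_span (hA : IsSpecial A) (hKA : IsLambdaAlg K A) (hKb : IsBinomial K)
    (hg : g ∈ F.W d) (hi : 1 ≤ i + d) {S : Set A} (hS : ∀ s ∈ S, Nice F g d i s) {x : A}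
    (hx : x ∈ Submodule.span K S) : Nice F g d i x := by
  induction hx using Submodule.span_induction with
  | mem s hs => exact hS s hs
  | zero => exact Nice.zero
  | add a b _ _ ha hb => exact ha.add hg hi hb
  | smul c a _ ha => rw [Algebra.smul_def]; exact ha.smul hA hKA hKb hg hi c

section Products

variable {N : A}

/-- Generators from a list. -/
def listGens (l : List (ℕ × A)) (hN : ∀ j, d < j → gamma j N = 0) : Gens (Fin l.length) d A where
  x k := (l.get k).2
  N := N
  gamma_N := hN

/-- The monomial of a list. -/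
noncomputable def listPoly (l : List (ℕ × A)) : MvPolynomial (GVar (Fin l.length) d) ℤ :=
  ∏ k : Fin l.length, if (l.get k).1 = 0 then 1 else MvPolynomial.X (Sum.inl (k, (l.get k).1 - 1))

theorem highWt_listPoly (l : List (ℕ × A)) :
    HighWt gwt (l.map Prod.fst).sum (listPoly (d := d) l) := by
  let T : Filt (MvPolynomial (GVar (Fin l.length) d) ℤ) :=
    { W := fun M =>
        { carrier := {p | HighWt gwt M p}
          add_mem' := fun hp hq => hp.add gwt hq
          zero_mem' := HighWt.zero gwt M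
          smul_mem' := fun a p hp => hp.const_mul gwt a }
      antitone := fun h p hp => hp.mono gwt h
      one_mem := HighWt.weight_zero gwt 1
      mul_mem := fun hp hq => hp.mul gwt hq }
  have h := T.prod_mem univ
    (fun k : Fin l.length => if (l.get k).1 = 0 then 1 else MvPolynomial.X (Sum.inl (k, (l.get k).1 - 1)))
    (fun k => (l.get k).1) fun k _ => by
      split_ifs with h
      · rw [h]; exact T.one_mem
      · have := highWt_X (A := ℤ) (gwt (ι := Fin l.length) (d := d)) (Sum.inl (k, (l.get k).1 - 1))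
        simp only [gwt, Sum.elim_inl, show (l.get k).1 - 1 + 1 = (l.get k).1 by omega] at this
        exact this
  have e : (l.map Prod.fst).sum = ∑ k : Fin l.length, (l.get k).1 := by
    rw [← List.sum_ofFn]
    conv_lhs => rw [← List.ofFn_get l, List.map_ofFn]
    rfl
  rw [e]
  exact h

theorem ev_listPoly (l : List (ℕ × A)) (hN : ∀ j, d < j → gamma j N = 0) :
    (listGens l hN).ev (listPoly (d := d) l) = (l.map fun p => gamma p.1 p.2).prod := by
  rw [listPoly, map_prod]
  have e : (l.map fun p => gamma p.1 p.2).prod = ∏ k : Fin l.length, gamma (l.get k).1 (l.get k).2 := by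
    rw [← List.prod_ofFn]
    conv_lhs => rw [← List.ofFn_get l, List.map_ofFn]
    rfl
  rw [e]
  refine prod_congr rfl fun k _ => ?_
  split_ifs with h
  · rw [map_one, h, gamma_zero]
  · rw [Gens.ev_inl, show (l.get k).1 - 1 + 1 = (l.get k).1 by omega]; rfl

theorem nice_prod (hA : IsSpecial A) (hN : ∀ j, d < j → gamma j N = 0)
    (hNW : ∀ j, j < d → gamma (j + 1) N ∈ F.W (j + 1)) (hi : 1 ≤ i + d) (l : List (ℕ × A))
    (hl : ∀ p ∈ l, ∀ j, gamma (j + 1) p.2 ∈ F.W (j + 1)) (hsum : i ≤ (l.map Prod.fst).sum) :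
    Nice F (gamma d N) d i (l.map fun p => gamma p.1 p.2).prod := by
  rw [← ev_listPoly l hN]
  exact nice_ev hA (listGens l hN) hi (fun k j => hl _ (List.get_mem l k) j) hNW _
    ((highWt_listPoly l).mono gwt hsum)

end Products

section GammaFil

variable (ε : A →ₐ[K] K)

/-- Elements of the γ-filtration satisfy the estimates. -/
theorem nice_of_mem_gammaFil (hA : IsSpecial A) (hKA : IsLambdaAlg K A) (hKb : IsBinomial K)
    {N : A} (hN : ∀ j, d < j → gamma j N = 0) (hNε : ε N = 0) (hi : 1 ≤ i + d) {x : A}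
    (hx : x ∈ gammaFil (ε : A →+* K) i) :
    Nice (gammaFilt (ε : A →+* K)) (gamma d N) d i x := by
  have hx' : x ∈ genSpan ε (Set.univ : Set A) i := by
    rw [← gammaFil_restrictScalars_eq ε (AddSubgroup.closure_univ) i]
    exact hx
  refine Nice.of_span hA hKA hKb (gamma_mem_gammaFil (ε : A →+* K) (by simpa using hNε) d) hi
    ?_ hx'
  rintro _ ⟨l, -, hsum, rfl⟩
  have := nice_prod (F := gammaFilt (ε : A →+* K)) hA hN
    (fun j _ => gamma_mem_gammaFil (ε : A →+* K) (by simpa using hNε) (j + 1)) hi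
    (l.map fun p => (p.1, p.2 - algebraMap K A (ε p.2)))
    (fun p hp j => by
      obtain ⟨q, _, rfl⟩ := List.mem_map.1 hp
      exact gamma_mem_gammaFil (ε : A →+* K) (by simp) (j + 1))
    (by rw [List.map_map]; exact hsum)
  rwa [List.map_map] at this

end GammaFil

end Groth.L08.Lambda
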