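import Groth.Agent.L08.Lambda.Gamma
import Groth.Agent.L22.Adams

/-!
Basic consequences of a positive structure: γ-filtration, multiplicativity of Adams operations.
-/

universe u

namespace Groth.L08.Lambda

open LambdaRing Finset Groth.L22.Lambda

variable {K : Type u} [CommRing K] [LambdaOps K] (P : PosStructure K)

theorem prod_mem_gammaFiltration (l : List (ℕ × K)) (hl : ∀ p ∈ l, P.aug p.2 = 0) (n : ℕ)
    (hn : n ≤ (l.map Prod.fst).sum) :
    (l.map fun p => gamma p.1 p.2).prod ∈ gammaFiltration P n := by
  unfold gammaFiltration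
  split_ifs with h
  · exact AddSubgroup.mem_top _
  · exact AddSubgroup.subset_closure ⟨l, hl, hn, rfl⟩

theorem gammaFiltration_antitone {m n : ℕ} (h : m ≤ n) :
    gammaFiltration P n ≤ gammaFiltration P m := by
  rcases Nat.eq_zero_or_pos n with rfl | hn
  · obtain rfl : m = 0 := by omega
    exact le_rfl
  · conv_lhs => rw [gammaFiltration, if_neg (by omega)]
    rw [AddSubgroup.closure_le]
    rintro y ⟨l, hl, hs, rfl⟩
    exact prod_mem_gammaFiltration P l hl m (h.trans hs)

theorem smul_mem_gammaFiltration {n : ℕ} (a x : K) (hx : x ∈ gammaFiltration P n) :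
    a * x ∈ gammaFiltration P n := by
  by_cases h : n = 0
  · subst h; simp [gammaFiltration]
  rw [gammaFiltration, if_neg h] at hx
  induction hx using AddSubgroup.closure_induction with
  | mem y hy =>
    obtain ⟨l, hl, hs, rfl⟩ := hy
    have hsplit : a * (l.map fun p => gamma p.1 p.2).prod =
        (((1, a - (P.aug a : K)) :: l).map fun p => gamma p.1 p.2).prod +
          P.aug a • (l.map fun p => gamma p.1 p.2).prod := by
      rw [List.map_cons, List.prod_cons, gamma_one, zsmul_eq_mul, sub_mul, sub_add_cancel]
    rw [hsplit]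
    refine add_mem (prod_mem_gammaFiltration P _ ?_ n ?_)
      (zsmul_mem (prod_mem_gammaFiltration P l hl n hs) _)
    · intro p hp
      rcases List.mem_cons.1 hp with rfl | hp
      · simp
      · exact hl p hp
    · simp; omega
  | zero => simp
  | add y z _ _ hy hz => rw [mul_add]; exact add_mem hy hz
  | neg y _ hy => rw [mul_neg]; exact neg_mem hy

theorem mul_mem_gammaFiltration {m n : ℕ} {x y : K} (hx : x ∈ gammaFiltration P m)
    (hy : y ∈ gammaFiltration P n) : x * y ∈ gammaFiltration P (m + n) := by
  by_cases hm : m = 0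
  · subst hm; rw [zero_add]; exact smul_mem_gammaFiltration P x y hy
  by_cases hn : n = 0
  · subst hn; rw [add_zero, mul_comm]; exact smul_mem_gammaFiltration P y x hx
  rw [gammaFiltration, if_neg hm] at hx
  rw [gammaFiltration, if_neg hn] at hy
  induction hx using AddSubgroup.closure_induction with
  | mem a ha =>
    induction hy using AddSubgroup.closure_induction with
    | mem b hb =>
      obtain ⟨l, hl, hs, rfl⟩ := ha
      obtain ⟨l', hl', hs', rfl⟩ := hb
      rw [← List.prod_append, ← List.map_append]
      refine prod_mem_gammaFiltration P _ ?_ _ ?_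
      · intro p hp
        rcases List.mem_append.1 hp with hp | hp
        · exact hl p hp
        · exact hl' p hp
      · rw [List.map_append, List.sum_append]; omega
    | zero => simp
    | add y z _ _ hy hz => rw [mul_add]; exact add_mem hy hz
    | neg y _ hy => rw [mul_neg]; exact neg_mem hy
  | zero => simp
  | add y z _ _ hy hz => rw [add_mul]; exact add_mem hy hz
  | neg y _ hy => rw [neg_mul]; exact neg_mem hy

theorem adams_zero_arg (j : ℕ) : adams P j (0 : K) = 0 := map_zero (adamsHom P j)

theorem adams_sub (j : ℕ) (x y : K) : adams P j (x - y) = adams P j x - adams P j y :=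
  map_sub (adamsHom P j) x y

theorem adams_sum_lines {s : Multiset K} (hs : ∀ u ∈ s, P.IsLine u) (j : ℕ) :
    adams P j s.sum = (s.map fun u => u ^ j).sum := by
  change adamsHom P j s.sum = _
  rw [map_multiset_sum]
  exact congrArg _ (Multiset.map_congr rfl fun u hu => adams_of_isLine P (hs u hu) j)

theorem adams_one (j : ℕ) : adams P j (1 : K) = 1 := by
  rw [adams_of_isLine P (isLine_one P), one_pow]

/-- Multiplicativity of ψ^j on a positive element times a line element. -/
theorem adams_mul_line (hK : HasSplitting K P) {e u : K} (he : e ∈ P.pos) (hu : P.IsLine u)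
    (j : ℕ) : adams P j (e * u) = adams P j e * u ^ j := by
  obtain ⟨L, _, _, Q, f, s, hf, -, hs, hsum, -, -⟩ := exists_splitting P hK he
  apply hf.injective
  have hu' : Q.IsLine (f u) := ⟨hf.pos_subset _ hu.1, by rw [hf.aug_comp]; exact hu.2⟩
  have hmul : s.sum * f u = (s.map fun v => v * f u).sum := by
    rw [Multiset.sum_map_mul_right, Multiset.map_id']
  rw [map_adams hf, map_mul, map_mul, map_adams hf, map_pow, ← hsum, hmul,
    adams_sum_lines Q, Multiset.map_map, adams_sum_lines Q hs, ← Multiset.sum_map_mul_right]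
  · simp [Function.comp_def, mul_pow]
  · intro v hv
    obtain ⟨w, hw, rfl⟩ := Multiset.mem_map.1 hv
    exact isLine_mul Q (hs w hw) hu'

theorem adams_mul_pos (hK : HasSplitting K P) {e g : K} (he : e ∈ P.pos) (hg : g ∈ P.pos)
    (j : ℕ) : adams P j (e * g) = adams P j e * adams P j g := by
  obtain ⟨L, _, _, Q, f, s, hf, hL, hs, hsum, -, -⟩ := exists_splitting P hK hg
  apply hf.injective
  have hmul : f e * s.sum = (s.map fun v => f e * v).sum := by
    rw [Multiset.sum_map_mul_left, Multiset.map_id']
  rw [map_adams hf, map_mul, map_mul, map_adams hf, map_adams hf, ← hsum, hmul,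
    adams_sum_lines Q hs, ← Multiset.sum_map_mul_left]
  change adamsHom Q j _ = _
  rw [map_multiset_sum, Multiset.map_map]
  exact congrArg _ (Multiset.map_congr rfl fun u hu =>
    adams_mul_line Q hL (hf.pos_subset _ he) (hs u hu) j)

theorem adams_mul (hK : HasSplitting K P) (x y : K) (j : ℕ) :
    adams P j (x * y) = adams P j x * adams P j y := by
  obtain ⟨a, b, ha, hb, rfl⟩ := P.exists_sub x
  obtain ⟨c, d, hc, hd, rfl⟩ := P.exists_sub y
  simp only [sub_mul, mul_sub, adams_sub, adams_mul_pos P hK ha hc, adams_mul_pos P hK ha hd,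
    adams_mul_pos P hK hb hc, adams_mul_pos P hK hb hd]

theorem adams_adams_pos (hK : HasSplitting K P) {e : K} (he : e ∈ P.pos) (i j : ℕ) :
    adams P i (adams P j e) = adams P (i * j) e := by
  obtain ⟨L, _, _, Q, f, s, hf, -, hs, hsum, -, -⟩ := exists_splitting P hK he
  apply hf.injective
  rw [map_adams hf, map_adams hf, map_adams hf, ← hsum, adams_sum_lines Q hs,
    adams_sum_lines Q hs, adams_sum_lines Q, Multiset.map_map]
  · simp [Function.comp_def, ← pow_mul, mul_comm i j]
  · intro v hv
    obtain ⟨w, hw, rfl⟩ := Multiset.mem_map.1 hv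
    exact isLine_pow Q (hs w hw) j

theorem adams_adams (hK : HasSplitting K P) (x : K) (i j : ℕ) :
    adams P i (adams P j x) = adams P (i * j) x := by
  obtain ⟨a, b, ha, hb, rfl⟩ := P.exists_sub x
  simp only [adams_sub, adams_adams_pos P hK ha, adams_adams_pos P hK hb]

end Groth.L08.Lambda
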