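import Groth.Agent.L08.Lambda.Universal
import Groth.Agent.L08.Lambda.Gamma
import Mathlib.RingTheory.Binomial

/-!
Special λ-rings, Adams operations, binomial λ-rings.
-/

universe u v

namespace Groth.L08.Lambda

open Finset LambdaRing

variable {K : Type u} [CommRing K] [LambdaOps K]

/-- A choice of the universal polynomials. -/
noncomputable def mulPoly (n : ℕ) : MvPolynomial (Fin n ⊕ Fin n) ℤ := (exists_isMulPoly n).choose

theorem isMulPoly_mulPoly (n : ℕ) : IsMulPoly n (mulPoly n) := (exists_isMulPoly n).choose_spec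

/-- A choice of the universal polynomials. -/
noncomputable def compPoly (i j : ℕ) : MvPolynomial (Fin (i * j)) ℤ :=
  (exists_isCompPoly i j).choose

theorem isCompPoly_compPoly (i j : ℕ) : IsCompPoly i j (compPoly i j) :=
  (exists_isCompPoly i j).choose_spec

theorem adamsOp_one (h1 : ∀ n, 2 ≤ n → LambdaOps.lam n (1 : K) = 0) {k : ℕ} (hk : 1 ≤ k) :
    adamsOp k (1 : K) = 1 := by
  have h : Newton (fun i => LambdaOps.lam i (1 : K)) (fun k => (1 : K) ^ k) := by
    refine (newton_linear (1 : K)).congr (fun i => ?_) fun _ => rfl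
    rcases i with - | - | i
    · simp [LambdaOps.lam_zero]
    · simp [LambdaOps.lam_one]
    · rw [h1 _ (by omega), if_neg (by omega), if_neg (by omega)]
  rw [adamsOp_eq_gh hk, ← h.eq_gh k hk, one_pow]

theorem adamsOp_mul (hK : IsSpecial K) {k : ℕ} (hk : 1 ≤ k) (x y : K) :
    adamsOp k (x * y) = adamsOp k x * adamsOp k y := by
  obtain ⟨-, h⟩ := mul_key isMulPoly_mulPoly (fun i => LambdaOps.lam i x)
    (fun i => LambdaOps.lam i y) (LambdaOps.lam_zero x) (LambdaOps.lam_zero y)
  have e : mulSeq mulPoly (fun i => LambdaOps.lam i x) (fun i => LambdaOps.lam i y) =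
      fun i => LambdaOps.lam i (x * y) :=
    funext fun i => (hK.lam_mul i _ (isMulPoly_mulPoly i) x y).symm
  rw [adamsOp_eq_gh hk, adamsOp_eq_gh hk, adamsOp_eq_gh hk, ← e, h k hk]

/-- The Adams operation of a special λ-ring as a ring map. -/
noncomputable def adamsRingHom (hK : IsSpecial K) {k : ℕ} (hk : 1 ≤ k) : K →+* K :=
  { adamsOpHom k with
    toFun := adamsOp k
    map_one' := adamsOp_one hK.lam_one_eq_zero hk
    map_mul' := adamsOp_mul hK hk }

theorem newton_adamsOp_lam (hK : IsSpecial K) {k : ℕ} (hk : 1 ≤ k) (x : K) :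
    Newton (fun i => adamsOp k (LambdaOps.lam i x)) (fun l => adamsOp (l * k) x) := by
  obtain ⟨-, h⟩ := comp_key isCompPoly_compPoly (fun i => LambdaOps.lam i x)
    (LambdaOps.lam_zero x)
  refine (h k hk).congr (fun i => ?_) fun l => ?_
  · rw [adamsOp_eq_gh hk]
    exact congrArg (fun f => gh f k)
      (funext fun j => (hK.lam_lam i j _ (isCompPoly_compPoly i j) x).symm)
  · rw [adamsOp_eq_gh (Nat.mul_pos (by omega) hk)]

theorem adamsOp_adamsOp (hK : IsSpecial K) {k k' : ℕ} (hk : 1 ≤ k) (hk' : 1 ≤ k') (x : K) :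
    adamsOp k (adamsOp k' x) = adamsOp (k * k') x := by
  have h := Newton.q_eq ((newton_lam x).map (adamsRingHom hK hk)) (newton_adamsOp_lam hK hk x) k'
    (fun i _ => rfl) k' hk' le_rfl
  rw [mul_comm k k']
  exact h

theorem lam_eq_ofGh [Algebra ℚ K] (x : K) (i : ℕ) :
    LambdaOps.lam i x = ofGh (fun k => adamsOp k x) i :=
  (newton_lam x).eq_ofGh i

theorem isSpecial_of_adams [Algebra ℚ K]
    (h1 : ∀ k : ℕ, 1 ≤ k → adamsOp k (1 : K) = 1)
    (hmul : ∀ k : ℕ, 1 ≤ k → ∀ x y : K, adamsOp k (x * y) = adamsOp k x * adamsOp k y)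
    (hcomp : ∀ k k' : ℕ, 1 ≤ k → 1 ≤ k' → ∀ x : K,
      adamsOp k (adamsOp k' x) = adamsOp (k * k') x) :
    IsSpecial K := by
  refine ⟨fun n hn => ?_, fun n P hP x y => ?_, fun i j Q hQ x => ?_⟩
  · rw [lam_eq_ofGh, ofGh_congr n (q' := fun k => (1 : K) ^ k)
      (fun k hk _ => by rw [h1 k hk, one_pow]) n le_rfl, ← (newton_linear (1 : K)).eq_ofGh,
      if_neg (by omega), if_neg (by omega)]
  · rw [lam_eq_ofGh, ← MvPolynomial.aeval_map_algebraMap ℚ, algebraMap_int_eq, map_mulPoly hP.1,
      aeval_mulP n (a := fun i => LambdaOps.lam i x) (b := fun i => LambdaOps.lam i y)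
        (LambdaOps.lam_zero x) (LambdaOps.lam_zero y)]
    refine ofGh_congr n (fun k hk _ => ?_) n le_rfl
    rw [hmul k hk, adamsOp_eq_gh hk, adamsOp_eq_gh hk]
  · rw [← MvPolynomial.aeval_map_algebraMap ℚ, algebraMap_int_eq, map_compPoly hQ.1,
      aeval_compP i j (a := fun t => LambdaOps.lam t x) (LambdaOps.lam_zero x), lam_eq_ofGh]
    refine ofGh_congr j (fun k hk _ => ?_) j le_rfl
    let φ : K →+* K :=
      { adamsOpHom k with
        toFun := adamsOp k
        map_one' := h1 k hk
        map_mul' := hmul k hk }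
    change φ (LambdaOps.lam i x) = _
    rw [lam_eq_ofGh, map_ofGh]
    refine ofGh_congr i (fun l hl _ => ?_) i le_rfl
    change adamsOp k (adamsOp l x) = _
    rw [hcomp k l hk hl, mul_comm k l, adamsOp_eq_gh (Nat.mul_pos hl hk)]

section Binomial

variable [BinomialRing K]

attribute [local instance] BinomialRing.toIsAddTorsionFree

omit [LambdaOps K] in
theorem natCast_succ_cancel (n : ℕ) (a b : K) (h : ((n : K) + 1) * a = ((n : K) + 1) * b) : a = b := by
  refine nsmul_right_injective (M := K) (Nat.succ_ne_zero n) ?_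
  simpa [nsmul_eq_mul] using h

omit [LambdaOps K] in
theorem succ_mul_choose (x : K) (n : ℕ) :
    ((n : K) + 1) * Ring.choose x (n + 1) = (x - n) * Ring.choose x n := by
  have h1 := Ring.descPochhammer_eq_factorial_smul_choose x (n + 1)
  have h2 := Ring.descPochhammer_eq_factorial_smul_choose x n
  rw [descPochhammer_succ_right, Polynomial.smeval_mul, Polynomial.smeval_sub,
    Polynomial.smeval_X, npow_one, Polynomial.smeval_natCast, npow_zero, nsmul_one, h2,
    Nat.factorial_succ] at h1
  refine nsmul_right_injective (M := K) (Nat.factorial_ne_zero n) ?_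
  simp only [nsmul_eq_mul, Nat.cast_mul, Nat.cast_add, Nat.cast_one] at h1 ⊢
  linear_combination -h1

omit [LambdaOps K] in
theorem newton_choose (x : K) : Newton (fun i => Ring.choose x i) (fun _ => x) := by
  refine ⟨Ring.choose_zero_right x, fun n => ?_⟩
  have hs : ∀ m : ℕ, ∑ i ∈ range (m + 1), (-1 : K) ^ i * x * Ring.choose x (m - i) =
      (x - m) * Ring.choose x m := by
    intro m
    induction m with
    | zero => simp
    | succ m ih =>
      rw [sum_range_succ']
      have : ∑ i ∈ range (m + 1), (-1 : K) ^ (i + 1) * x * Ring.choose x (m + 1 - (i + 1)) =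
          -∑ i ∈ range (m + 1), (-1 : K) ^ i * x * Ring.choose x (m - i) := by
        rw [← sum_neg_distrib]
        refine sum_congr rfl fun i _ => ?_
        rw [pow_succ, Nat.add_sub_add_right]
        ring
      rw [this, ih, ← succ_mul_choose, pow_zero, one_mul, Nat.sub_zero]
      push_cast
      ring
  rw [hs, succ_mul_choose]

variable (hKb : IsBinomial K)

include hKb in
theorem adamsOp_binomial {k : ℕ} (hk : 1 ≤ k) (x : K) : adamsOp k x = x := by
  have h : Newton (fun i => LambdaOps.lam i x) (fun _ => x) :=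
    (newton_choose x).congr (fun i => (hKb i x).symm) fun _ => rfl
  rw [adamsOp_eq_gh hk, ← h.eq_gh k hk]

include hKb in
theorem isSpecial_binomial : IsSpecial K := by
  refine ⟨fun n hn => ?_, fun n P hP x y => ?_, fun i j Q hQ x => ?_⟩
  · rw [hKb, show (1 : K) = ((1 : ℕ) : K) by simp, Ring.choose_natCast,
      Nat.choose_eq_zero_of_lt (by omega), Nat.cast_zero]
  · let Pf : ∀ m, MvPolynomial (Fin m ⊕ Fin m) ℤ := fun m =>
      if h : n = m then h ▸ P else mulPoly m
    have hPf : ∀ m, IsMulPoly m (Pf m) := fun m => by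
      dsimp only [Pf]
      split_ifs with h
      · subst h; exact hP
      · exact isMulPoly_mulPoly m
    obtain ⟨h0, hk⟩ := mul_key hPf (fun i => LambdaOps.lam i x) (fun i => LambdaOps.lam i y)
      (LambdaOps.lam_zero x) (LambdaOps.lam_zero y)
    have h := Newton.c_eq (newton_lam (x * y)) (newton_gh h0) natCast_succ_cancel n
      (fun k hk' _ => ?_) n le_rfl
    · simp only [mulSeq, Pf, dite_true] at h
      exact h
    · rw [hk k hk', ← adamsOp_eq_gh hk', ← adamsOp_eq_gh hk', adamsOp_binomial hKb hk',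
        adamsOp_binomial hKb hk', adamsOp_binomial hKb hk']
  · let Qf : ∀ a b, MvPolynomial (Fin (a * b)) ℤ := fun a b =>
      if h : i = a ∧ j = b then h.1 ▸ h.2 ▸ Q else compPoly a b
    have hQf : ∀ a b, IsCompPoly a b (Qf a b) := fun a b => by
      dsimp only [Qf]
      split_ifs with h
      · obtain ⟨rfl, rfl⟩ := h; exact hQ
      · exact isCompPoly_compPoly a b
    obtain ⟨h0, hk⟩ := comp_key hQf (fun t => LambdaOps.lam t x) (LambdaOps.lam_zero x)
    have h := Newton.c_eq (newton_lam (LambdaOps.lam i x)) (newton_gh (h0 i)) natCast_succ_cancel j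
      (fun k hk' _ => ?_) j le_rfl
    · simp only [compSeq, Qf, and_self, dite_true] at h
      exact h
    · rw [adamsOp_binomial hKb hk']
      refine Newton.c_eq (newton_lam x) (hk k hk') natCast_succ_cancel i (fun l hl _ => ?_) i le_rfl
      rw [← adamsOp_eq_gh (Nat.mul_pos hl hk'), adamsOp_binomial hKb hl,
        adamsOp_binomial hKb (Nat.mul_pos hl hk')]

end Binomial

end Groth.L08.Lambda
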