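import Groth.Agent.L08.Lambda.Pos
import Groth.Agent.L08.Lambda.Nice
import Mathlib.Data.List.GetD

/-!
A λ-ring with the splitting property is special, and its augmentation is a λ-homomorphism.
-/

universe u v

namespace Groth.L08.Lambda

open Finset LambdaRing MvPolynomial Groth.L22.Lambda

section Lines

theorem map_aeval_int {R : Type u} {S : Type v} [CommRing R] [CommRing S] [Algebra ℤ R]
    [Algebra ℤ S] {σ : Type*} (φ : R →+* S)
    (f : σ → R) (P : MvPolynomial σ ℤ) : φ (aeval f P) = aeval (fun i => φ (f i)) P := by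
  induction P using MvPolynomial.induction_on with
  | C z => rw [aeval_C, aeval_C, eq_intCast (algebraMap ℤ R) z, eq_intCast (algebraMap ℤ S) z,
      map_intCast]
  | add p q hp hq => simp only [map_add, hp, hq]
  | mul_X p i hp => simp only [map_mul, hp, aeval_X]

/-- Monomials in lines inside the model. -/
noncomputable def lineMap : MvPolynomial ℕ ℤ →+* Mdl Empty ℕ :=
  (aeval fun a : ℕ => (1 + X (Sum.inr a) : Mdl Empty ℕ)).toRingHom

theorem lineMap_injective : Function.Injective lineMap := by
  let β : Mdl Empty ℕ →ₐ[ℚ] MvPolynomial ℕ ℚ :=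
    aeval (Sum.elim (fun p => p.1.elim) (fun a : ℕ => X a - 1))
  have h : ∀ z, β (lineMap z) = MvPolynomial.map (Int.castRingHom ℚ) z := by
    intro z
    induction z using MvPolynomial.induction_on with
    | C c => rw [eq_intCast C c, map_intCast, map_intCast, map_intCast]
    | add p q hp hq => simp only [map_add, hp, hq]
    | mul_X p i hp =>
      simp only [map_mul, hp]
      simp [lineMap, β]
  intro p q hpq
  exact castQ_injective ℕ (by rw [← h, ← h, hpq])

theorem psi_lineMap_monomial (e : ℕ →₀ ℕ) (k : ℕ) :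
    Mdl.psi k (lineMap (monomial e 1)) = lineMap (monomial e 1) ^ k := by
  have h : lineMap (monomial e 1) =
      ∏ a ∈ e.support, (1 + X (Sum.inr a) : Mdl Empty ℕ) ^ e a := by
    simp [lineMap, aeval_monomial, Finsupp.prod]
  rw [h, map_prod, ← prod_pow]
  refine prod_congr rfl fun a _ => ?_
  simp [Mdl.psi, ← pow_mul, mul_comm]

theorem lam_lineMap_monomial (e : ℕ →₀ ℕ) (n : ℕ) :
    LambdaOps.lam n (lineMap (monomial e 1)) =
      if n = 0 then 1 else if n = 1 then lineMap (monomial e 1) else 0 := by
  rw [lam_eq_ofGh, (newton_linear (lineMap (monomial e 1))).eq_ofGh n]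
  exact ofGh_congr n (fun k hk _ => by rw [Mdl.adamsOp_eq hk, psi_lineMap_monomial]) n le_rfl

variable {L : Type u} [CommRing L] [LambdaOps L] (Q : PosStructure L) {u : ℕ → L}

/-- λ-operations of combinations of products of lines are such combinations, universally. -/
theorem exists_lam_lines (hu : ∀ a, Q.IsLine (u a)) (z : MvPolynomial ℕ ℤ) (n : ℕ) :
    ∃ w, aeval u w = LambdaOps.lam n (aeval u z) ∧ lineMap w = LambdaOps.lam n (lineMap z) := by
  let S : AddSubgroup (MvPolynomial ℕ ℤ) :=
    { carrier := {z | ∀ n, ∃ w, aeval u w = LambdaOps.lam n (aeval u z) ∧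
        lineMap w = LambdaOps.lam n (lineMap z)}
      zero_mem' := fun n => ⟨if n = 0 then 1 else 0, by
        rcases n with - | n <;> simp [LambdaOps.lam_zero, lam_succ_zero]⟩
      add_mem' := fun {a b} ha hb n => by
        choose wa hwa hwa' using ha
        choose wb hwb hwb' using hb
        refine ⟨∑ i ∈ range (n + 1), wa i * wb (n - i), ?_, ?_⟩
        · simp only [map_sum, map_mul, map_add, hwa, hwb, LambdaOps.lam_add]
        · simp only [map_sum, map_mul, map_add, hwa', hwb', LambdaOps.lam_add]
      neg_mem' := fun {a} ha n => by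
        induction n using Nat.strong_induction_on with
        | _ n ih =>
          rcases n with - | n
          · exact ⟨1, by simp [LambdaOps.lam_zero]⟩
          choose wa hwa hwa' using ha
          choose wn hwn hwn' using fun i : Fin (n + 1) => ih (n - (i : ℕ)) (by omega)
          refine ⟨-∑ i : Fin (n + 1), wa ((i : ℕ) + 1) * wn i, ?_, ?_⟩
          · simp only [map_neg, map_sum, map_mul, hwa, hwn, lam_neg_succ]
            rw [Fin.sum_univ_eq_sum_range
              (fun i => LambdaOps.lam (i + 1) (aeval u a) * LambdaOps.lam (n - i) (-aeval u a))]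
          · simp only [map_neg, map_sum, map_mul, hwa', hwn', lam_neg_succ]
            rw [Fin.sum_univ_eq_sum_range
              (fun i => LambdaOps.lam (i + 1) (lineMap a) * LambdaOps.lam (n - i) (-lineMap a))] }
  have hmono : ∀ e : ℕ →₀ ℕ, monomial e (1 : ℤ) ∈ S := by
    intro e n
    refine ⟨if n = 0 then 1 else if n = 1 then monomial e 1 else 0, ?_, ?_⟩
    · have hline : Q.IsLine (aeval u (monomial e (1 : ℤ))) := by
        rw [aeval_monomial, map_one, one_mul, Finsupp.prod]
        exact Finset.prod_induction _ Q.IsLine (fun a b => isLine_mul Q) (isLine_one Q)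
          fun a _ => isLine_pow Q (hu a) _
      rcases n with - | - | n
      · simp [LambdaOps.lam_zero]
      · simp [LambdaOps.lam_one]
      · rw [lam_eq_zero_of_isLine Q hline (by omega)]; simp
    · rw [lam_lineMap_monomial]
      split_ifs <;> simp
  have hz : z ∈ S := by
    rw [z.as_sum]
    refine sum_mem fun e _ => ?_
    rw [show monomial e (z.coeff e) = (z.coeff e) • monomial e (1 : ℤ) by
      rw [smul_monomial, smul_eq_mul, mul_one]]
    exact zsmul_mem (hmono e) _
  exact hz n

theorem lam_mul_of_lines (hu : ∀ a, Q.IsLine (u a)) (zx zy : MvPolynomial ℕ ℤ) (n : ℕ)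
    (P : MvPolynomial (Fin n ⊕ Fin n) ℤ) (hP : IsMulPoly n P) :
    LambdaOps.lam n (aeval u zx * aeval u zy) =
      aeval (Sum.elim (fun k : Fin n => LambdaOps.lam ((k : ℕ) + 1) (aeval u zx))
        (fun k : Fin n => LambdaOps.lam ((k : ℕ) + 1) (aeval u zy))) P := by
  obtain ⟨w, hw, hw'⟩ := exists_lam_lines Q hu (zx * zy) n
  choose wx hwx hwx' using fun k => exists_lam_lines Q hu zx k
  choose wy hwy hwy' using fun k => exists_lam_lines Q hu zy k
  have e : w = aeval (Sum.elim (fun k : Fin n => wx ((k : ℕ) + 1))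
      (fun k : Fin n => wy ((k : ℕ) + 1))) P := by
    apply lineMap_injective
    rw [hw', map_mul, Mdl.isSpecial.lam_mul n P hP]
    rw [map_aeval_int]
    refine congrArg (fun f => aeval f P) (funext fun k => ?_)
    rcases k with k | k
    · exact (hwx' _).symm
    · exact (hwy' _).symm
  rw [← map_mul, ← hw, e]
  refine (map_aeval_int (aeval u : MvPolynomial ℕ ℤ →ₐ[ℤ] L).toRingHom _ P).trans ?_
  refine congrArg (fun f => aeval f P) (funext fun k => ?_)
  rcases k with k | k
  · exact hwx _
  · exact hwy _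

theorem lam_lam_of_lines (hu : ∀ a, Q.IsLine (u a)) (z : MvPolynomial ℕ ℤ) (i j : ℕ)
    (P : MvPolynomial (Fin (i * j)) ℤ) (hP : IsCompPoly i j P) :
    LambdaOps.lam j (LambdaOps.lam i (aeval u z)) =
      aeval (fun k : Fin (i * j) => LambdaOps.lam ((k : ℕ) + 1) (aeval u z)) P := by
  choose w hw hw' using fun k => exists_lam_lines Q hu z k
  obtain ⟨t, ht, ht'⟩ := exists_lam_lines Q hu (w i) j
  have e : t = aeval (fun k : Fin (i * j) => w ((k : ℕ) + 1)) P := by
    apply lineMap_injective
    rw [ht', hw', Mdl.isSpecial.lam_lam i j P hP]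
    rw [map_aeval_int]
    exact congrArg (fun f => aeval f P) (funext fun k => (hw' _).symm)
  rw [← hw i, ← ht, e]
  refine (map_aeval_int (aeval u : MvPolynomial ℕ ℤ →ₐ[ℤ] L).toRingHom _ P).trans ?_
  exact congrArg (fun f => aeval f P) (funext fun k => hw _)

end Lines

variable {K : Type u} [CommRing K] [LambdaOps K] {P : PosStructure K}

theorem exists_lines : ∀ (n : ℕ) (K : Type u) [CommRing K] [LambdaOps K] (P : PosStructure K),
    HasSplitting K P → ∀ e : Fin n → K, (∀ i, e i ∈ P.pos) →
      ∃ (L : Type u) (_ : CommRing L) (_ : LambdaOps L) (Q : PosStructure L) (f : K →+* L),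
        IsExtension P Q f ∧ ∀ i, ∃ s : Multiset L, (∀ v ∈ s, Q.IsLine v) ∧ s.sum = f (e i) := by
  intro n
  induction n with
  | zero =>
    intro K _ _ P _ e _
    exact ⟨K, _, _, P, RingHom.id K,
      ⟨fun _ _ => rfl, Function.injective_id, fun _ => rfl, fun _ he => he⟩, fun i => i.elim0⟩
  | succ n ih =>
    intro K _ _ P hK e he
    obtain ⟨L1, _, _, Q1, f1, s, hf1, hL1, hs, hsum, -, -⟩ := exists_splitting P hK (he 0)
    obtain ⟨L, i1, i2, Q, f, hf, hfl⟩ := ih L1 Q1 hL1 (fun i => f1 (e i.succ))
      fun i => hf1.pos_subset _ (he i.succ)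
    refine ⟨L, i1, i2, Q, f.comp f1,
      ⟨fun k x => ?_, hf.injective.comp hf1.injective,
        fun x => (hf.aug_comp _).trans (hf1.aug_comp x),
        fun x hx => hf.pos_subset _ (hf1.pos_subset x hx)⟩, fun i => ?_⟩
    · rw [RingHom.comp_apply, RingHom.comp_apply, hf1.isLambdaHom k x, hf.isLambdaHom k (f1 x)]
    · induction i using Fin.cases with
      | zero =>
        refine ⟨s.map f, fun v hv => ?_, by rw [← map_multiset_sum, hsum]; rfl⟩
        obtain ⟨w, hw, rfl⟩ := Multiset.mem_map.1 hv
        exact ⟨hf.pos_subset _ (hs w hw).1, (hf.aug_comp w).trans (hs w hw).2⟩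
      | succ i => exact hfl i

theorem exists_common_lines (hK : HasSplitting K P) (x y : K) :
    ∃ (L : Type u) (_ : CommRing L) (_ : LambdaOps L) (Q : PosStructure L) (f : K →+* L) (u : ℕ → L),
      IsExtension P Q f ∧ (∀ a, Q.IsLine (u a)) ∧
        (∃ z : MvPolynomial ℕ ℤ, aeval u z = f x) ∧ ∃ z : MvPolynomial ℕ ℤ, aeval u z = f y := by
  obtain ⟨a, b, ha, hb, rfl⟩ := P.exists_sub x
  obtain ⟨c, e, hc, he, rfl⟩ := P.exists_sub y
  obtain ⟨L, i1, i2, Q, f, hf, hl⟩ := exists_lines 4 K P hK ![a, b, c, e] (fun i => by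
    fin_cases i <;> assumption)
  choose s hs hsum using hl
  classical
  let all : List L := (∑ i, s i).toList
  let u : ℕ → L := fun k => all.getD k 1
  have hu : ∀ k, Q.IsLine (u k) := by
    intro k
    by_cases h : k < all.length
    · simp only [u, List.getD_eq_getElem _ _ h]
      obtain ⟨i, -, hi⟩ := Multiset.mem_sum.1 (Multiset.mem_toList.1 (List.getElem_mem h))
      exact hs i _ hi
    · simp only [u, List.getD_eq_default _ _ (not_lt.1 h)]
      exact isLine_one Q
  have hmem : ∀ i, f (![a, b, c, e] i) ∈ (aeval u : MvPolynomial ℕ ℤ →ₐ[ℤ] L).range := by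
    intro i
    rw [← hsum i]
    refine multiset_sum_mem _ fun v hv => ?_
    obtain ⟨k, hk, rfl⟩ := List.getElem_of_mem
      (Multiset.mem_toList.2 (Multiset.mem_sum.2 ⟨i, mem_univ i, hv⟩) : v ∈ all)
    exact ⟨X k, (aeval_X u k).trans (List.getD_eq_getElem all 1 hk)⟩
  refine ⟨L, i1, i2, Q, f, u, hf, hu, ?_, ?_⟩
  · rw [map_sub]; exact (aeval u).range.sub_mem (hmem 0) (hmem 1)
  · rw [map_sub]; exact (aeval u).range.sub_mem (hmem 2) (hmem 3)

theorem isSpecial_of_splitting (hK : HasSplitting K P) : IsSpecial K := by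
  refine ⟨fun n hn => lam_eq_zero_of_isLine P (isLine_one P) hn, fun n M hM x y => ?_,
    fun i j M hM x => ?_⟩
  · obtain ⟨L, _, _, Q, f, u, hf, hu, ⟨zx, hx⟩, zy, hy⟩ := exists_common_lines hK x y
    apply hf.injective
    rw [hf.isLambdaHom, map_mul, ← hx, ← hy, lam_mul_of_lines Q hu zx zy n M hM]
    rw [map_aeval_int f]
    refine congrArg (fun g => aeval g M) (funext fun k => ?_)
    rcases k with k | k
    · exact (congrArg _ hx).trans (hf.isLambdaHom _ _).symm
    · exact (congrArg _ hy).trans (hf.isLambdaHom _ _).symm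
  · obtain ⟨L, _, _, Q, f, u, hf, hu, ⟨zx, hx⟩, -⟩ := exists_common_lines hK x x
    apply hf.injective
    rw [hf.isLambdaHom, hf.isLambdaHom, ← hx, lam_lam_of_lines Q hu zx i j M hM]
    rw [map_aeval_int f]
    exact congrArg (fun g => aeval g M)
      (funext fun k => (congrArg _ hx).trans (hf.isLambdaHom _ _).symm)

theorem isBinomial_int :
    letI := binomialLambdaOps ℤ
    IsBinomial ℤ :=
  fun _ _ => rfl

variable (P) in
theorem aug_lam_choose (hK : HasSplitting K P) (n : ℕ) (x : K) :
    P.aug (LambdaOps.lam n x) = Ring.choose (P.aug x) n := by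
  let i0 := binomialLambdaOps ℤ
  have key : PowerSeries.map P.aug (lamSeries x) = lamSeries (P.aug x) := by
    have hpos : ∀ e ∈ P.pos, PowerSeries.map P.aug (lamSeries e) = lamSeries (P.aug e) := by
      intro e he
      have hm : P.aug e = ((P.aug e).toNat : ℤ) := (Int.toNat_of_nonneg (P.aug_pos e he).le).symm
      ext k
      rw [PowerSeries.coeff_map, coeff_lamSeries, coeff_lamSeries, aug_lam P hK he hm]
      change _ = Ring.choose (P.aug e) k
      rw [hm, Ring.choose_natCast, Int.toNat_natCast]
    obtain ⟨a, b, ha, hb, rfl⟩ := P.exists_sub x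
    have h1 := lamSeries_add (a - b) b
    rw [sub_add_cancel] at h1
    have h2 := lamSeries_add (P.aug (a - b)) (P.aug b)
    rw [← map_add, sub_add_cancel, ← hpos a ha, ← hpos b hb, h1, map_mul] at h2
    exact ((isUnit_lamSeries b).map (PowerSeries.map P.aug)).mul_right_cancel h2
  have := congrArg (PowerSeries.coeff n) key
  rwa [PowerSeries.coeff_map, coeff_lamSeries, coeff_lamSeries] at this

theorem intCast_lam (P : PosStructure K) (n : ℕ) (z : ℤ) :
    ((Ring.choose z n : ℤ) : K) = LambdaOps.lam n (z : K) := by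
  let i0 := binomialLambdaOps ℤ
  have key : PowerSeries.map (Int.castRingHom K) (lamSeries z) = lamSeries (z : K) := by
    have hnat : ∀ m : ℕ, PowerSeries.map (Int.castRingHom K) (lamSeries (m : ℤ)) =
        lamSeries (m : K) := by
      intro m
      ext k
      rw [PowerSeries.coeff_map, coeff_lamSeries, L22.Lambda.lamSeries_natCast P m]
      change Int.castRingHom K (Ring.choose (m : ℤ) k) = _
      rw [Ring.choose_natCast,
        show ((1 + PowerSeries.X : PowerSeries K) ^ m) =
          (((1 + Polynomial.X : Polynomial K) ^ m : Polynomial K) : PowerSeries K) by simp,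
        Polynomial.coeff_coe, Polynomial.coeff_one_add_X_pow]
      simp
    obtain ⟨m, rfl | rfl⟩ := Int.eq_nat_or_neg z
    · rw [hnat, Int.cast_natCast]
    · have h1 := lamSeries_add (-(m : ℤ)) (m : ℤ)
      rw [neg_add_cancel, lamSeries_zero] at h1
      have h2 := lamSeries_add (-(m : K)) (m : K)
      rw [neg_add_cancel, lamSeries_zero] at h2
      have h3 := congrArg (PowerSeries.map (Int.castRingHom K)) h1
      rw [map_one, map_mul, hnat] at h3
      rw [Int.cast_neg, Int.cast_natCast]
      exact (isUnit_lamSeries (m : K)).mul_right_cancel (h3.symm.trans h2)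
  have := congrArg (PowerSeries.coeff n) key
  rwa [PowerSeries.coeff_map, coeff_lamSeries, coeff_lamSeries] at this

variable (P) in
theorem isAugLambdaAlg (hK : HasSplitting K P) :
    letI := binomialLambdaOps ℤ
    IsAugLambdaAlg ℤ K (AlgHom.mk' P.aug (map_zsmul P.aug)) := by
  let i0 := binomialLambdaOps ℤ
  refine ⟨fun n z => ?_, fun n x => aug_lam_choose P hK n x⟩
  simp only [algebraMap_int_eq, eq_intCast]
  exact intCast_lam P n z

theorem gammaFiltration_eq (n : ℕ) (x : K) :
    x ∈ gammaFiltration P n ↔ x ∈ gammaFil (P.aug : K →+* ℤ) n := by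
  constructor
  · intro hx
    rcases Nat.eq_zero_or_pos n with rfl | hn
    · exact mem_gammaFil_zero _ _
    rw [gammaFiltration, if_neg (by omega)] at hx
    exact (AddSubgroup.closure_le (K := (gammaFil (P.aug : K →+* ℤ) n).toAddSubgroup)).2
      Ideal.subset_span hx
  · intro hx
    induction hx using Submodule.span_induction with
    | mem y hy =>
      obtain ⟨l, hl, hs, rfl⟩ := hy
      exact prod_mem_gammaFiltration P l hl n hs
    | zero => exact zero_mem _
    | add a b _ _ ha hb => exact add_mem ha hb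
    | smul a b _ hb => exact smul_mem_gammaFiltration P a b hb

theorem adams_eq_adamsOp (hK : HasSplitting K P) {k : ℕ} (hk : 1 ≤ k) (x : K) :
    adams P k x = adamsOp k x := by
  have hpos : ∀ e ∈ P.pos, adams P k e = adamsOp k e := by
    intro e he
    obtain ⟨L, _, _, Q, f, s, hf, -, hs, hsum, -, hlam⟩ := exists_splitting P hK he
    apply hf.injective
    rw [map_adams hf, adamsOp_eq_gh hk, gh_map f (LambdaOps.lam_zero e), ← hsum,
      adams_sum_lines Q hs]
    simp only [hlam]
    exact (newton_esymm s).eq_gh k hk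
  obtain ⟨a, b, ha, hb, rfl⟩ := P.exists_sub x
  rw [adams_sub, hpos a ha, hpos b hb]
  exact (map_sub (adamsOpHom k) a b).symm

variable (P) in
theorem adams_sub_mem (hK : HasSplitting K P) {k : ℕ} (hk : 1 ≤ k) (n : ℕ) (x : K)
    (hx : x ∈ gammaFiltration P n) :
    adams P k x - (k : K) ^ n * x ∈ gammaFiltration P (n + 1) := by
  let i0 := binomialLambdaOps ℤ
  have hA := isSpecial_of_splitting hK
  rw [gammaFiltration_eq, adams_eq_adamsOp hK hk]
  let ε : K →ₐ[ℤ] ℤ := AlgHom.mk' P.aug (map_zsmul P.aug)
  have hx' : x ∈ genSpan ε (Set.univ : Set K) n := by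
    rw [← gammaFil_restrictScalars_eq ε (AddSubgroup.closure_univ) n]
    exact (gammaFiltration_eq n x).1 hx
  clear hx
  let T : K →+ K := adamsOpHom k - AddMonoidHom.mulLeft ((k : K) ^ n)
  change T x ∈ gammaFil (P.aug : K →+* ℤ) (n + 1)
  induction hx' using Submodule.span_induction with
  | mem y hy =>
    obtain ⟨l, -, hsum, rfl⟩ := hy
    set l' : List (ℕ × K) := l.map fun p => (p.1, p.2 - algebraMap ℤ K (ε p.2)) with hl'
    have e : (l.map fun p => gamma p.1 (p.2 - algebraMap ℤ K (ε p.2))).prod =
        (l'.map fun p => gamma p.1 p.2).prod := by rw [hl', List.map_map]; rfl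
    have h0 : ∀ j, 0 < j → gamma j (0 : K) = 0 := fun j hj => gamma_zero_arg j hj
    have hp : HighWt gwt n (listPoly (d := 0) l') :=
      (highWt_listPoly l').mono gwt (by rw [hl', List.map_map]; exact hsum)
    obtain ⟨q, h1, h2, h3⟩ := adams_core hA (listGens l' h0) (listPoly l') hp hk
    have hc : HighWt gwt (n + 1)
        (q - (k : MvPolynomial (GVar (Fin l'.length) 0) ℤ) ^ n * listPoly l') := by
      refine HighWt.succ gwt (h2.sub gwt (hp.const_mul gwt _)) ?_
      rw [comp_sub, h3, ← Nat.cast_pow, comp_natCast_mul, sub_self]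
    have := (gammaFilt (P.aug : K →+* ℤ)).ev_mem (listGens l' h0) (fun i j => ?_)
      (fun j hj => absurd hj (Nat.not_lt_zero j)) hc
    · rw [map_sub, map_mul, map_pow, map_natCast, h1, ev_listPoly, ← e] at this
      exact this
    · obtain ⟨p, -, hp'⟩ := List.mem_map.1 (show (l'.get i) ∈ l.map
        (fun p => (p.1, p.2 - algebraMap ℤ K (ε p.2))) from List.get_mem l' i)
      refine gamma_mem_gammaFil _ ?_ (j + 1)
      change P.aug (l'.get i).2 = 0
      rw [← hp']
      simp [ε]
  | zero => rw [map_zero]; exact zero_mem _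
  | add a b _ _ ha hb => rw [map_add]; exact add_mem ha hb
  | smul c a _ ha => rw [map_zsmul]; exact zsmul_mem ha c

end Groth.L08.Lambda
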