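import Groth.Agent.L08.Lambda.Newton
import Mathlib.RingTheory.MvPolynomial.Symmetric.FundamentalTheorem
import Mathlib.RingTheory.MvPolynomial.Tower
import Mathlib.Algebra.MvPolynomial.Equiv

/-!
The universal polynomials of λ-rings: uniqueness, existence and the identities they satisfy
for arbitrary sequences.
-/

universe u v

namespace Groth.L08.Lambda

open Finset MvPolynomial LambdaRing

section Inj

variable (R : Type u) [CommRing R] (n : ℕ)

/-- Substitution of elementary symmetric functions in two groups of variables. -/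
noncomputable def sumEsymm : MvPolynomial (Fin n ⊕ Fin n) R →ₐ[R] MvPolynomial (Fin n ⊕ Fin n) R :=
  aeval (Sum.elim (fun k : Fin n => rename Sum.inl (esymm (Fin n) R ((k : ℕ) + 1)))
    (fun k : Fin n => rename Sum.inr (esymm (Fin n) R ((k : ℕ) + 1))))

theorem aeval_esymm_injective (σ : Type*) [Fintype σ] (m : ℕ) (h : m ≤ Fintype.card σ) :
    Function.Injective (aeval (fun k : Fin m => esymm σ R ((k : ℕ) + 1)) :
      MvPolynomial (Fin m) R →ₐ[R] MvPolynomial σ R) := by
  intro p q hpq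
  apply esymmAlgHom_injective R h
  apply Subtype.ext
  rw [esymmAlgHom_apply, esymmAlgHom_apply]
  exact hpq

theorem sumAlgEquiv_sumEsymm (p : MvPolynomial (Fin n ⊕ Fin n) R) :
    sumAlgEquiv R (Fin n) (Fin n) (sumEsymm R n p) =
      MvPolynomial.map (aeval (fun k : Fin n => esymm (Fin n) R ((k : ℕ) + 1))).toRingHom
        (aeval (fun k : Fin n => esymm (Fin n) (MvPolynomial (Fin n) R) ((k : ℕ) + 1))
          (sumAlgEquiv R (Fin n) (Fin n) p)) := by
  induction p using MvPolynomial.induction_on with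
  | C r => simp [sumEsymm]
  | add p q hp hq => simp only [map_add, hp, hq]
  | mul_X p i hp =>
    simp only [map_mul, hp]
    congr 1
    rcases i with i | i
    · rw [sumAlgEquiv_X_inl, aeval_X, map_esymm]
      simp only [sumEsymm, aeval_X, Sum.elim_inl, esymm, map_sum, map_prod, rename_X,
        sumAlgEquiv_X_inl]
    · rw [sumAlgEquiv_X_inr, aeval_C, algebraMap_eq, map_C]
      simp only [sumEsymm, aeval_X, Sum.elim_inr, AlgHom.toRingHom_eq_coe, RingHom.coe_coe]
      exact DFunLike.congr_fun (sumAlgEquiv_comp_rename_inr R (Fin n) (Fin n))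
        (esymm (Fin n) R ((i : ℕ) + 1))

theorem sumEsymm_injective : Function.Injective (sumEsymm R n) := by
  intro p q h
  have h' := congrArg (sumAlgEquiv R (Fin n) (Fin n)) h
  rw [sumAlgEquiv_sumEsymm, sumAlgEquiv_sumEsymm] at h'
  have h'' := MvPolynomial.map_injective _
    (aeval_esymm_injective R (Fin n) n (by simp)) h'
  exact (sumAlgEquiv R (Fin n) (Fin n)).injective
    (aeval_esymm_injective (MvPolynomial (Fin n) R) (Fin n) n (by simp) h'')

theorem map_sumEsymm {S : Type v} [CommRing S] (φ : R →+* S) (p : MvPolynomial (Fin n ⊕ Fin n) R) :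
    MvPolynomial.map φ (sumEsymm R n p) = sumEsymm S n (MvPolynomial.map φ p) := by
  induction p using MvPolynomial.induction_on with
  | C r => simp [sumEsymm]
  | add p q hp hq => simp only [map_add, hp, hq]
  | mul_X p i hp =>
    simp only [map_mul, map_X, hp]
    congr 1
    rcases i with i | i <;>
      simp [sumEsymm, map_rename, map_esymm]

end Inj

section Seq

variable {R : Type u} [CommRing R]

/-- The sequence `1, f 0, f 1, …, f (m-1), 0, …`. -/
def seqOfFin {m : ℕ} (f : Fin m → R) (i : ℕ) : R :=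
  if i = 0 then 1 else if h : i - 1 < m then f ⟨i - 1, h⟩ else 0

theorem seqOfFin_zero {m : ℕ} (f : Fin m → R) : seqOfFin f 0 = 1 := if_pos rfl

theorem map_seqOfFin {S : Type v} [CommRing S] (φ : R →+* S) {m : ℕ} (f : Fin m → R) (a : ℕ → S)
    (ha : a 0 = 1) (hf : ∀ k : Fin m, φ (f k) = a (k + 1)) :
    ∀ i ≤ m, φ (seqOfFin f i) = a i := by
  intro i hi
  unfold seqOfFin
  rcases i with - | i
  · simp [ha]
  · rw [if_neg (by omega), dif_pos (by omega), hf]
    simp

theorem newton_aeval_esymm {m : ℕ} (f : Fin m → R) :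
    Newton (fun i => (univ.val.map f).esymm i) (fun k => ∑ a, f a ^ k) := by
  refine (newton_esymm (univ.val.map f)).congr (fun _ => rfl) fun i => ?_
  rw [Multiset.map_map]; rfl

end Seq

section Weight

variable {σ : Type*} {A : Type u} [CommRing A] {M : Type*} [AddCommMonoid M] {w : σ → M}

theorem isWeightedHomogeneous_natCast (n : ℕ) :
    IsWeightedHomogeneous w (n : MvPolynomial σ A) (0 : M) := by
  rw [← map_natCast (C : A →+* MvPolynomial σ A)]; exact isWeightedHomogeneous_C w _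

theorem isWeightedHomogeneous_neg_one_pow (n : ℕ) :
    IsWeightedHomogeneous w ((-1) ^ n : MvPolynomial σ A) (0 : M) := by
  rw [← map_one (C : A →+* MvPolynomial σ A), ← map_neg, ← map_pow]
  exact isWeightedHomogeneous_C w _

theorem gh_homog {c : ℕ → MvPolynomial σ A} (v : M)
    (hc : ∀ i, IsWeightedHomogeneous w (c i) (i • v)) :
    ∀ k, IsWeightedHomogeneous w (gh c k) (k • v) := by
  intro k
  induction k using Nat.strong_induction_on with
  | _ k ih =>
    rcases k with - | n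
    · rw [gh.eq_1]; exact isWeightedHomogeneous_zero _ _ _
    rw [gh.eq_2, mul_sub, mul_sum, sub_eq_add_neg, ← sum_neg_distrib]
    refine IsWeightedHomogeneous.add ?_ (IsWeightedHomogeneous.sum _ _ _ fun i _ => ?_)
    · have := (isWeightedHomogeneous_neg_one_pow (w := w) (A := A) n).mul
        (((isWeightedHomogeneous_natCast (w := w) n).add (isWeightedHomogeneous_one A w)).mul
          (hc (n + 1)))
      rwa [zero_add, zero_add] at this
    · have h1 := ((isWeightedHomogeneous_neg_one_pow (w := w) (A := A) (i : ℕ)).mul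
        (ih ((i : ℕ) + 1) (by omega))).mul (hc (n - i))
      have h2 := ((isWeightedHomogeneous_neg_one_pow (w := w) (A := A) (n + 1)).mul h1)
      rw [zero_add, zero_add, ← add_smul, show (i : ℕ) + 1 + (n - i) = n + 1 by omega] at h2
      convert h2 using 1
      rw [pow_succ]; ring

theorem ofGh_homog [Algebra ℚ A] {q : ℕ → MvPolynomial σ A} (v : M)
    (hq : ∀ k, 1 ≤ k → IsWeightedHomogeneous w (q k) (k • v)) :
    ∀ i, IsWeightedHomogeneous w (ofGh q i) (i • v) := by
  intro i
  induction i using Nat.strong_induction_on with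
  | _ i ih =>
    rcases i with - | n
    · rw [ofGh.eq_1, zero_smul]; exact isWeightedHomogeneous_one _ _
    rw [ofGh.eq_2, IsScalarTower.algebraMap_apply ℚ A (MvPolynomial σ A), algebraMap_eq]
    have h : IsWeightedHomogeneous w
        (∑ j : Fin (n + 1), (-1) ^ (j : ℕ) * q ((j : ℕ) + 1) * ofGh q (n - j)) ((n + 1) • v) := by
      refine IsWeightedHomogeneous.sum _ _ _ fun j _ => ?_
      have h1 := ((isWeightedHomogeneous_neg_one_pow (w := w) (A := A) (j : ℕ)).mul
        (hq ((j : ℕ) + 1) (by omega))).mul (ih (n - j) (by omega))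
      rwa [zero_add, ← add_smul, show (j : ℕ) + 1 + (n - j) = n + 1 by omega] at h1
    have h2 := (isWeightedHomogeneous_C w (algebraMap ℚ A (1 / ((n : ℚ) + 1)))).mul h
    rw [zero_add] at h2
    exact h2

theorem seqOfFin_homog {m : ℕ} (f : Fin m → MvPolynomial σ A) (v : M)
    (hf : ∀ k : Fin m, IsWeightedHomogeneous w (f k) (((k : ℕ) + 1) • v)) (i : ℕ) :
    IsWeightedHomogeneous w (seqOfFin f i) (i • v) := by
  unfold seqOfFin
  split_ifs with h h'
  · rw [h, zero_smul]; exact isWeightedHomogeneous_one _ _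
  · have := hf ⟨i - 1, h'⟩
    rwa [show i - 1 + 1 = i by omega] at this
  · exact isWeightedHomogeneous_zero _ _ _

theorem isWeightedHomogeneous_of_map {B : Type v} [CommRing B] {φ : A →+* B}
    (hφ : Function.Injective φ) {p : MvPolynomial σ A} {m : M}
    (h : IsWeightedHomogeneous w (MvPolynomial.map φ p) m) : IsWeightedHomogeneous w p m := by
  intro d hd
  refine h ?_
  rw [coeff_map]
  exact fun h0 => hd (hφ (by rw [h0, map_zero]))

end Weight

section Poly

/-- The universal multiplication polynomial over ℚ. -/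
noncomputable def mulP (n : ℕ) : MvPolynomial (Fin n ⊕ Fin n) ℚ :=
  ofGh (fun k => gh (seqOfFin fun i : Fin n => (X (Sum.inl i) : MvPolynomial (Fin n ⊕ Fin n) ℚ)) k *
    gh (seqOfFin fun i : Fin n => X (Sum.inr i)) k) n

/-- The universal composition polynomial over ℚ. -/
noncomputable def compP (i j : ℕ) : MvPolynomial (Fin (i * j)) ℚ :=
  ofGh (fun k => ofGh (fun l =>
    gh (seqOfFin fun t : Fin (i * j) => (X t : MvPolynomial (Fin (i * j)) ℚ)) (l * k)) i) j

theorem mulP_homog (n : ℕ) : IsWeightedHomogeneous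
    (Sum.elim (fun k : Fin n => (((k : ℕ) + 1, 0) : ℕ × ℕ)) (fun k : Fin n => ((0, (k : ℕ) + 1) : ℕ × ℕ)))
    (mulP n) ((n, n) : ℕ × ℕ) := by
  have h := ofGh_homog (A := ℚ) (σ := Fin n ⊕ Fin n)
    (w := Sum.elim (fun k : Fin n => (((k : ℕ) + 1, 0) : ℕ × ℕ))
      (fun k : Fin n => ((0, (k : ℕ) + 1) : ℕ × ℕ)))
    (q := fun k => gh (seqOfFin fun i : Fin n => (X (Sum.inl i))) k *
      gh (seqOfFin fun i : Fin n => X (Sum.inr i)) k) ((1, 1) : ℕ × ℕ) (fun k _ => ?_) n
  · simpa [mulP] using h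
  · have h1 := gh_homog (A := ℚ) ((1, 0) : ℕ × ℕ) (seqOfFin_homog
      (w := Sum.elim (fun k : Fin n => (((k : ℕ) + 1, 0) : ℕ × ℕ))
        (fun k : Fin n => ((0, (k : ℕ) + 1) : ℕ × ℕ)))
      (fun i : Fin n => X (Sum.inl i)) _ fun i => by
        convert isWeightedHomogeneous_X ℚ _ (Sum.inl i) using 1
        · rfl
        · simp) k
    have h2 := gh_homog (A := ℚ) ((0, 1) : ℕ × ℕ) (seqOfFin_homog
      (w := Sum.elim (fun k : Fin n => (((k : ℕ) + 1, 0) : ℕ × ℕ))
        (fun k : Fin n => ((0, (k : ℕ) + 1) : ℕ × ℕ)))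
      (fun i : Fin n => X (Sum.inr i)) _ fun i => by
        convert isWeightedHomogeneous_X ℚ _ (Sum.inr i) using 1
        · rfl
        · simp) k
    simpa [← smul_add] using h1.mul h2

theorem compP_homog (i j : ℕ) :
    IsWeightedHomogeneous (fun k : Fin (i * j) => (k : ℕ) + 1) (compP i j) (i * j) := by
  have h := ofGh_homog (A := ℚ) (w := fun k : Fin (i * j) => (k : ℕ) + 1)
    (q := fun k => ofGh (fun l => gh (seqOfFin fun t : Fin (i * j) => X t) (l * k)) i) i
    (fun k _ => ?_) j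
  · simpa [compP, mul_comm i j] using h
  · have hs := gh_homog (A := ℚ) (1 : ℕ) (seqOfFin_homog (w := fun k : Fin (i * j) => (k : ℕ) + 1)
      (fun t : Fin (i * j) => X t) _ fun t => by simpa using isWeightedHomogeneous_X ℚ _ t)
    have := ofGh_homog (A := ℚ) (w := fun k : Fin (i * j) => (k : ℕ) + 1)
      (q := fun l => gh (seqOfFin fun t : Fin (i * j) => X t) (l * k)) k
      (fun l _ => by simpa using hs (l * k)) i
    simpa [mul_comm k i] using this

variable {R : Type u} [CommRing R] [Algebra ℚ R]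

theorem aeval_mulP (n : ℕ) {a b : ℕ → R} (ha : a 0 = 1) (hb : b 0 = 1) :
    aeval (Sum.elim (fun k : Fin n => a (k + 1)) (fun k : Fin n => b (k + 1))) (mulP n) =
      ofGh (fun k => gh a k * gh b k) n := by
  set φ := (aeval (Sum.elim (fun k : Fin n => a (k + 1)) (fun k : Fin n => b (k + 1))) :
      MvPolynomial (Fin n ⊕ Fin n) ℚ →ₐ[ℚ] R) with hφ
  change φ.toRingHom (mulP n) = _
  rw [mulP, map_ofGh]
  refine ofGh_congr n (fun k _ hk => ?_) n le_rfl
  rw [map_mul, gh_map _ (seqOfFin_zero _), gh_map _ (seqOfFin_zero _)]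
  congr 1
  · exact gh_congr (by simp [seqOfFin_zero]) n
      (map_seqOfFin φ.toRingHom _ a ha fun t => by simp [hφ]) k hk
  · exact gh_congr (by simp [seqOfFin_zero]) n
      (map_seqOfFin φ.toRingHom _ b hb fun t => by simp [hφ]) k hk

theorem aeval_compP (i j : ℕ) {a : ℕ → R} (ha : a 0 = 1) :
    aeval (fun k : Fin (i * j) => a (k + 1)) (compP i j) =
      ofGh (fun k => ofGh (fun l => gh a (l * k)) i) j := by
  set φ := (aeval (fun k : Fin (i * j) => a (k + 1)) :
      MvPolynomial (Fin (i * j)) ℚ →ₐ[ℚ] R) with hφ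
  change φ.toRingHom (compP i j) = _
  rw [compP, map_ofGh]
  refine ofGh_congr j (fun k _ hk => ?_) j le_rfl
  rw [map_ofGh]
  refine ofGh_congr i (fun l _ hl => ?_) i le_rfl
  rw [gh_map _ (seqOfFin_zero _)]
  exact gh_congr (by simp [seqOfFin_zero]) (i * j)
    (map_seqOfFin φ.toRingHom _ a ha fun t => by simp [hφ]) (l * k) (Nat.mul_le_mul hl hk)

end Poly

section Identify

theorem map_multiset_esymm {R : Type u} {S : Type v} [CommRing R] [CommRing S] (φ : R →+* S)
    (s : Multiset R) (k : ℕ) : φ (s.esymm k) = (s.map φ).esymm k := by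
  rw [← L22.Lambda.coeff_prod_one_add, ← L22.Lambda.coeff_prod_one_add, ← PowerSeries.coeff_map,
    map_multiset_prod, Multiset.map_map, Multiset.map_map]
  simp [Function.comp_def]

theorem map_mulPoly {n : ℕ} {P : MvPolynomial (Fin n ⊕ Fin n) ℤ}
    (hP : aeval (Sum.elim (fun k : Fin n => rename Sum.inl (esymm (Fin n) ℤ ((k : ℕ) + 1)))
      (fun k : Fin n => rename Sum.inr (esymm (Fin n) ℤ ((k : ℕ) + 1)))) P = mulGen n n) :
    MvPolynomial.map (Int.castRingHom ℚ) P = mulP n := by
  apply sumEsymm_injective ℚ n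
  rw [← map_sumEsymm]
  unfold sumEsymm
  rw [hP]
  let T : Fin n → MvPolynomial (Fin n ⊕ Fin n) ℚ := fun i => X (Sum.inl i)
  let U : Fin n → MvPolynomial (Fin n ⊕ Fin n) ℚ := fun i => X (Sum.inr i)
  have hl : ∀ k, rename Sum.inl (esymm (Fin n) ℚ k) = (univ.val.map T).esymm k := fun k => by
    rw [esymm_map_val T univ k]
    simp [T, esymm, map_sum, map_prod]
  have hr : ∀ k, rename Sum.inr (esymm (Fin n) ℚ k) = (univ.val.map U).esymm k := fun k => by
    rw [esymm_map_val U univ k]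
    simp [U, esymm, map_sum, map_prod]
  simp only [hl, hr]
  rw [aeval_mulP n (a := fun k => (univ.val.map T).esymm k) (b := fun k => (univ.val.map U).esymm k)
    (by simp [Multiset.esymm]) (by simp [Multiset.esymm]), mulGen, map_multiset_esymm,
    Multiset.map_map]
  refine ((newton_esymm _).eq_ofGh n).trans (ofGh_congr n (fun k hk _ => ?_) n le_rfl)
  rw [← (newton_aeval_esymm T).eq_gh k hk, ← (newton_aeval_esymm U).eq_gh k hk, sum_mul_sum,
    ← sum_product', Multiset.map_map, sum_eq_multiset_sum]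
  simp [T, U, Function.comp_def, mul_pow]

theorem map_compPoly {i j : ℕ} {Q : MvPolynomial (Fin (i * j)) ℤ}
    (hQ : aeval (fun k : Fin (i * j) => esymm (Fin (i * j)) ℤ ((k : ℕ) + 1)) Q =
      compGen (i * j) i j) :
    MvPolynomial.map (Int.castRingHom ℚ) Q = compP i j := by
  apply aeval_esymm_injective ℚ (Fin (i * j)) (i * j) (by simp)
  have h : aeval (fun k : Fin (i * j) => esymm (Fin (i * j)) ℚ ((k : ℕ) + 1))
      (MvPolynomial.map (Int.castRingHom ℚ) Q) =
      MvPolynomial.map (Int.castRingHom ℚ) (compGen (i * j) i j) := by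
    rw [← hQ]
    clear hQ
    induction Q using MvPolynomial.induction_on with
    | C r => simp
    | add p q hp hq => simp only [map_add, hp, hq]
    | mul_X p i hp => simp only [map_mul, map_X, aeval_X, hp, map_esymm]
  rw [h]
  let T : Fin (i * j) → MvPolynomial (Fin (i * j)) ℚ := X
  simp only [esymm_eq_multiset_esymm]
  rw [aeval_compP i j (a := fun k => (univ.val.map T).esymm k) (by simp [Multiset.esymm]),
    compGen, map_multiset_esymm, Multiset.map_map]
  refine ((newton_esymm _).eq_ofGh j).trans (ofGh_congr j (fun k hk _ => ?_) j le_rfl)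
  rw [show ((Multiset.map (fun a => a ^ k) (Multiset.map ((MvPolynomial.map (Int.castRingHom ℚ)) ∘
      fun s => ∏ a ∈ s, X a) (powersetCard i univ).val)).sum : MvPolynomial (Fin (i * j)) ℚ) =
      (univ.val.map fun a => T a ^ k).esymm i by
    rw [esymm_map_val, Multiset.map_map, sum_eq_multiset_sum]
    simp [T, Function.comp_def, map_prod, prod_pow]]
  refine ((newton_aeval_esymm fun a => T a ^ k).eq_ofGh i).trans
    (ofGh_congr i (fun l hl _ => ?_) i le_rfl)
  rw [← (newton_aeval_esymm T).eq_gh (l * k) (Nat.mul_pos hl hk)]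
  simp [← pow_mul, mul_comm l k]

end Identify

section Exist

theorem eq_sumEsymm_symm (n : ℕ)
    (Φ : MvPolynomial (Fin n) (MvPolynomial (Fin n) ℤ) →+* MvPolynomial (Fin n ⊕ Fin n) ℤ)
    (hX : ∀ a, Φ (X a) = X (Sum.inl a))
    (hC : ∀ b : Fin n, Φ (C (X b)) = rename Sum.inr (esymm (Fin n) ℤ ((b : ℕ) + 1)))
    (p : MvPolynomial (Fin n) (MvPolynomial (Fin n) ℤ)) :
    Φ (aeval (fun k : Fin n => esymm (Fin n) (MvPolynomial (Fin n) ℤ) ((k : ℕ) + 1)) p) =
      sumEsymm ℤ n ((sumAlgEquiv ℤ (Fin n) (Fin n)).symm p) := by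
  obtain ⟨q, rfl⟩ := (sumAlgEquiv ℤ (Fin n) (Fin n)).surjective p
  rw [AlgEquiv.symm_apply_apply]
  refine RingHom.congr_fun (?_ : (Φ.comp (aeval fun k : Fin n =>
      esymm (Fin n) (MvPolynomial (Fin n) ℤ) ((k : ℕ) + 1)).toRingHom).comp
      (sumAlgEquiv ℤ (Fin n) (Fin n)).toAlgHom.toRingHom = (sumEsymm ℤ n).toRingHom) q
  refine MvPolynomial.ringHom_ext (fun z => ?_) fun i => ?_
  · simp
  · rcases i with i | i
    · simp [sumEsymm, esymm, map_sum, map_prod, hX]
    · simp [sumEsymm, hC]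

set_option maxHeartbeats 800000 in
theorem exists_mulPoly_aux (n : ℕ) : ∃ P : MvPolynomial (Fin n ⊕ Fin n) ℤ,
    aeval (Sum.elim (fun k : Fin n => rename Sum.inl (esymm (Fin n) ℤ ((k : ℕ) + 1)))
      (fun k : Fin n => rename Sum.inr (esymm (Fin n) ℤ ((k : ℕ) + 1)))) P = mulGen n n := by
  let cY : ℕ → (MvPolynomial (Fin n) ℤ) := fun k => if k = 0 then 1 else if h : k - 1 < n then X ⟨k - 1, h⟩ else 0
  let f : Fin n → PowerSeries (MvPolynomial (Fin n) (MvPolynomial (Fin n) ℤ)) := fun a =>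
    PowerSeries.mk fun k => C (cY k) * X a ^ k
  let G : MvPolynomial (Fin n) (MvPolynomial (Fin n) ℤ) := PowerSeries.coeff n (∏ a, f a)
  have hG : G.IsSymmetric := by
    intro e
    change (rename e).toRingHom G = G
    rw [← PowerSeries.coeff_map, map_prod]
    refine congrArg _ (Fintype.prod_equiv e _ _ fun a => ?_)
    ext1 k
    simp [f]
  obtain ⟨P0, hP0⟩ := esymmAlgHom_surjective (MvPolynomial (Fin n) ℤ) (σ := Fin n) (n := n) (by simp) ⟨G, hG⟩
  have hP0' : aeval (fun k : Fin n => esymm (Fin n) (MvPolynomial (Fin n) ℤ) ((k : ℕ) + 1)) P0 = G := by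
    rw [← esymmAlgHom_apply]; exact congrArg Subtype.val hP0
  refine ⟨(sumAlgEquiv ℤ (Fin n) (Fin n)).symm P0, ?_⟩
  let ι : (MvPolynomial (Fin n) ℤ) →ₐ[ℤ] MvPolynomial (Fin n ⊕ Fin n) ℤ :=
    aeval fun k : Fin n => rename Sum.inr (esymm (Fin n) ℤ ((k : ℕ) + 1))
  let Φ : MvPolynomial (Fin n) (MvPolynomial (Fin n) ℤ) →+* MvPolynomial (Fin n ⊕ Fin n) ℤ :=
    eval₂Hom ι.toRingHom fun a => X (Sum.inl a)
  have hΦ := eq_sumEsymm_symm n Φ (fun a => eval₂Hom_X' _ _ a) (fun b => by simp [Φ, ι]) P0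
  unfold sumEsymm at hΦ
  rw [← hΦ, hP0', ← PowerSeries.coeff_map, map_prod]
  have hfac : ∀ a : Fin n, PowerSeries.map Φ (f a) =
      ((univ.val.map fun b => (X (Sum.inl a) * X (Sum.inr b) : MvPolynomial (Fin n ⊕ Fin n) ℤ)).map
        fun u => 1 + PowerSeries.C u * PowerSeries.X).prod := by
    intro a
    ext1 k
    rw [L22.Lambda.coeff_prod_one_add, PowerSeries.coeff_map, esymm_map_val]
    simp only [f, PowerSeries.coeff_mk, map_mul, map_pow, prod_mul_distrib, prod_const]
    have hc : ι (cY k) = rename Sum.inr (esymm (Fin n) ℤ k) := by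
      simp only [cY]
      split_ifs with h h'
      · subst h; simp
      · rw [aeval_X]; simp [show k - 1 + 1 = k by omega]
      · simp [esymm, powersetCard_eq_empty.2 (show #(univ : Finset (Fin n)) < k by simp; omega)]
    simp only [Φ, eval₂Hom_C, AlgHom.toRingHom_eq_coe, RingHom.coe_coe, hc, eval₂Hom_X']
    rw [esymm, map_sum, sum_mul]
    refine sum_congr rfl fun t ht => ?_
    rw [(mem_powersetCard.1 ht).2, map_prod, mul_comm]
    simp
  rw [prod_congr rfl fun a _ => hfac a, mulGen, ← L22.Lambda.coeff_prod_one_add, Multiset.map_map]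
  simp only [Multiset.map_map, ← prod_eq_multiset_prod]
  congr 1
  rw [← univ_product_univ, prod_product]
  rfl

theorem compGen_isSymmetric (N i j : ℕ) : (compGen N i j).IsSymmetric := by
  intro e
  change (rename e).toRingHom (compGen N i j) = compGen N i j
  rw [compGen, map_multiset_esymm, Multiset.map_map]
  conv_rhs => rw [← Finset.map_univ_equiv e, powersetCard_map, Finset.map_val, Multiset.map_map]
  congr 2
  funext s
  simp [map_prod, Finset.prod_map]

theorem exists_compPoly_aux (i j : ℕ) : ∃ Q : MvPolynomial (Fin (i * j)) ℤ,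
    aeval (fun k : Fin (i * j) => esymm (Fin (i * j)) ℤ ((k : ℕ) + 1)) Q = compGen (i * j) i j := by
  obtain ⟨Q, hQ⟩ := esymmAlgHom_surjective ℤ (σ := Fin (i * j)) (n := i * j) (by simp)
    ⟨_, compGen_isSymmetric (i * j) i j⟩
  exact ⟨Q, by rw [← esymmAlgHom_apply]; exact congrArg Subtype.val hQ⟩

theorem exists_isMulPoly (n : ℕ) : ∃ P, IsMulPoly n P := by
  obtain ⟨P, hP⟩ := exists_mulPoly_aux n
  exact ⟨P, hP, isWeightedHomogeneous_of_map Int.cast_injective
    (by rw [map_mulPoly hP]; exact mulP_homog n)⟩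

theorem exists_isCompPoly (i j : ℕ) : ∃ Q, IsCompPoly i j Q := by
  obtain ⟨Q, hQ⟩ := exists_compPoly_aux i j
  exact ⟨Q, hQ, isWeightedHomogeneous_of_map Int.cast_injective
    (by rw [map_compPoly hQ]; exact compP_homog i j)⟩

end Exist

section Keys

variable {R : Type u} [CommRing R]

/-- `P_n` evaluated on two sequences. -/
noncomputable def mulSeq (P : ∀ n, MvPolynomial (Fin n ⊕ Fin n) ℤ) (a b : ℕ → R) (n : ℕ) : R :=
  aeval (Sum.elim (fun k : Fin n => a (k + 1)) (fun k : Fin n => b (k + 1))) (P n)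

/-- `Q_{i,j}` evaluated on a sequence. -/
noncomputable def compSeq (Q : ∀ i j, MvPolynomial (Fin (i * j)) ℤ) (a : ℕ → R) (i j : ℕ) : R :=
  aeval (fun k : Fin (i * j) => a (k + 1)) (Q i j)

theorem map_mulSeq {S : Type v} [CommRing S] (φ : R →+* S)
    (P : ∀ n, MvPolynomial (Fin n ⊕ Fin n) ℤ) (a b : ℕ → R) (n : ℕ) :
    φ (mulSeq P a b n) = mulSeq P (fun i => φ (a i)) (fun i => φ (b i)) n := by
  change φ.toIntAlgHom (aeval _ (P n)) = _
  rw [← AlgHom.comp_apply, comp_aeval]
  refine congrArg (fun f => aeval f (P n)) (funext fun k => ?_)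
  rcases k with k | k <;> rfl

theorem map_compSeq {S : Type v} [CommRing S] (φ : R →+* S)
    (Q : ∀ i j, MvPolynomial (Fin (i * j)) ℤ) (a : ℕ → R) (i j : ℕ) :
    φ (compSeq Q a i j) = compSeq Q (fun i => φ (a i)) i j := by
  change φ.toIntAlgHom (aeval _ (Q i j)) = _
  rw [← AlgHom.comp_apply, comp_aeval]
  rfl

section Rat

variable [Algebra ℚ R] {P : ∀ n, MvPolynomial (Fin n ⊕ Fin n) ℤ} (hP : ∀ n, IsMulPoly n (P n))
  {Q : ∀ i j, MvPolynomial (Fin (i * j)) ℤ} (hQ : ∀ i j, IsCompPoly i j (Q i j))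

include hP in
theorem mulSeq_eq_ofGh {a b : ℕ → R} (ha : a 0 = 1) (hb : b 0 = 1) (n : ℕ) :
    mulSeq P a b n = ofGh (fun k => gh a k * gh b k) n := by
  rw [mulSeq, ← aeval_map_algebraMap ℚ, algebraMap_int_eq, map_mulPoly (hP n).1,
    aeval_mulP n ha hb]

include hQ in
theorem compSeq_eq_ofGh {a : ℕ → R} (ha : a 0 = 1) (i j : ℕ) :
    compSeq Q a i j = ofGh (fun k => ofGh (fun l => gh a (l * k)) i) j := by
  rw [compSeq, ← aeval_map_algebraMap ℚ, algebraMap_int_eq, map_compPoly (hQ i j).1,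
    aeval_compP i j ha]

end Rat

/-- Lift of a sequence to the universal ring. -/
noncomputable def genSeq (σ : Type*) (f : ℕ → σ) (A : Type*) [CommRing A] (i : ℕ) :
    MvPolynomial σ A :=
  if i = 0 then 1 else X (f (i - 1))

theorem map_genSeq_cast {σ : Type*} (f : ℕ → σ) (i : ℕ) :
    MvPolynomial.map (Int.castRingHom ℚ) (genSeq σ f ℤ i) = genSeq σ f ℚ i := by
  unfold genSeq
  split_ifs <;> simp

theorem aeval_genSeq {σ : Type*} (f : ℕ → σ) (g : σ → R) {a : ℕ → R} (ha : a 0 = 1)
    (h : ∀ i, g (f i) = a (i + 1)) (i : ℕ) : aeval g (genSeq σ f ℤ i) = a i := by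
  unfold genSeq
  rcases i with - | i <;> simp [ha, h]

variable {P : ∀ n, MvPolynomial (Fin n ⊕ Fin n) ℤ} (hP : ∀ n, IsMulPoly n (P n))
  {Q : ∀ i j, MvPolynomial (Fin (i * j)) ℤ} (hQ : ∀ i j, IsCompPoly i j (Q i j))

theorem castQ_injective (σ : Type*) :
    Function.Injective (MvPolynomial.map (Int.castRingHom ℚ) :
      MvPolynomial σ ℤ →+* MvPolynomial σ ℚ) :=
  MvPolynomial.map_injective _ Int.cast_injective

include hP in
theorem mul_key (a b : ℕ → R) (ha : a 0 = 1) (hb : b 0 = 1) :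
    mulSeq P a b 0 = 1 ∧ ∀ k, 1 ≤ k → gh (mulSeq P a b) k = gh a k * gh b k := by
  let σ := ℕ ⊕ ℕ
  let A := genSeq σ Sum.inl ℤ
  let B := genSeq σ Sum.inr ℤ
  have hA : A 0 = 1 := if_pos rfl
  have hB : B 0 = 1 := if_pos rfl
  have h0 : mulSeq P A B 0 = 1 := by
    apply castQ_injective σ
    rw [map_mulSeq, map_one, mulSeq_eq_ofGh hP (by rw [hA, map_one]) (by rw [hB, map_one]),
      ofGh.eq_1]
  have hk : ∀ k, 1 ≤ k → gh (mulSeq P A B) k = gh A k * gh B k := by
    intro k hk
    apply castQ_injective σ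
    rw [gh_map _ h0, map_mul, gh_map _ hA, gh_map _ hB]
    conv_lhs => arg 1; ext i; rw [map_mulSeq, mulSeq_eq_ofGh hP (by rw [hA, map_one]) (by rw [hB, map_one])]
    rw [gh_ofGh _ k hk]
  let φ : MvPolynomial σ ℤ →+* R :=
    (aeval (Sum.elim (fun i => a (i + 1)) (fun i => b (i + 1)))).toRingHom
  have hφA : ∀ i, φ (A i) = a i := aeval_genSeq _ _ ha fun i => rfl
  have hφB : ∀ i, φ (B i) = b i := aeval_genSeq _ _ hb fun i => rfl
  have hs : ∀ i, φ (mulSeq P A B i) = mulSeq P a b i := fun i => by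
    rw [map_mulSeq]; simp only [hφA, hφB]
  refine ⟨by rw [← hs, h0, map_one], fun k hk' => ?_⟩
  have := congrArg φ (hk k hk')
  rwa [gh_map _ h0, map_mul, gh_map _ hA, gh_map _ hB, funext hs, funext hφA, funext hφB] at this

include hQ in
theorem comp_key (a : ℕ → R) (ha : a 0 = 1) :
    (∀ i, compSeq Q a i 0 = 1) ∧ ∀ k, 1 ≤ k →
      Newton (fun i => gh (compSeq Q a i) k) (fun l => gh a (l * k)) := by
  let A := genSeq ℕ id ℤ
  have hA : A 0 = 1 := if_pos rfl
  have h0 : ∀ i, compSeq Q A i 0 = 1 := by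
    intro i
    apply castQ_injective ℕ
    rw [map_compSeq, map_one, compSeq_eq_ofGh hQ (by rw [hA, map_one]), ofGh.eq_1]
  let φ : MvPolynomial ℕ ℤ →+* R := (aeval (fun i => a (i + 1))).toRingHom
  have hφA : ∀ i, φ (A i) = a i := aeval_genSeq _ _ ha fun i => rfl
  have hs : ∀ i j, φ (compSeq Q A i j) = compSeq Q a i j := fun i j => by
    rw [map_compSeq]; simp only [hφA]
  refine ⟨fun i => by rw [← hs, h0, map_one], fun k hk => ?_⟩
  have hq : ∀ i, MvPolynomial.map (Int.castRingHom ℚ) (gh (compSeq Q A i) k) =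
      ofGh (fun l => gh (fun t => MvPolynomial.map (Int.castRingHom ℚ) (A t)) (l * k)) i := by
    intro i
    rw [gh_map _ (h0 i)]
    conv_lhs => arg 1; ext j; rw [map_compSeq, compSeq_eq_ofGh hQ (by rw [hA, map_one])]
    rw [gh_ofGh _ k hk]
  have hN : Newton (fun i => gh (compSeq Q A i) k) (fun l => gh A (l * k)) := by
    have h := newton_ofGh
      (fun l => gh (fun t => MvPolynomial.map (Int.castRingHom ℚ) (A t)) (l * k))
    refine ⟨castQ_injective ℕ (by rw [hq, map_one]; exact h.1), fun n => castQ_injective ℕ ?_⟩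
    simp only [map_sum, map_mul, map_add, map_natCast, map_one, map_pow, map_neg, hq,
      gh_map _ hA]
    exact h.2 n
  refine (hN.map φ).congr (fun i => ?_) fun l => ?_
  · rw [gh_map _ (h0 i), funext (hs i)]
  · rw [gh_map _ hA, funext hφA]

end Keys

end Groth.L08.Lambda
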